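/-
helper45: automorphisms of `PSU_n(q)`, step 6: a Sylow `p`-subgroup whose centre consists of
transvection images; every automorphism preserves the set of transvection images.
-/
import Cfsg.Agent.Lib.Helper45.PSUAut.Sylow

set_option autoImplicit false

namespace Cfsg.Agent.Lib.Helper45.PSUAut

open Matrix Cfsg.Agent.S0837 Cfsg.Agent.S0781 Cfsg.Agent.S2644 Cfsg.Agent.Lib.Helper37
  Cfsg.Agent.Lib.Helper45.FTPG
open scoped Pointwise

variable {F : Type*} [Field F] {q n : ℕ} {σ : F →+* F}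

/-- every automorphism of `PSU_n` maps transvection images to transvection images -/
def AutPresT (hS : Frob σ q) (n : ℕ) : Prop :=
  ∀ (β : MulAut (Cfsg.PSU n F q)) (x : Cfsg.PSU n F q), IsT hS x → IsT hS (β x)

/-- all non-trivial transvection images are conjugate -/
theorem exists_conj_tb [Finite F] (hS : Frob σ q) (hn : 3 ≤ n) {v e : Fin n → F} (hv0 : v ≠ 0)
    (hv : hf σ v v = 0) (he0 : e ≠ 0) (he : hf σ e e = 0) {c c₀ : F} (hc : c ≠ 0)
    (hc0 : c + σ c = 0) (hc₀ : c₀ ≠ 0) (hc₀0 : c₀ + σ c₀ = 0) :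
    ∃ g : ↥(Cfsg.SU n F q),
      (QuotientGroup.mk g : Cfsg.PSU n F q) * tb hS v c * (QuotientGroup.mk g)⁻¹ = tb hS e c₀ := by
  have hσc₀ : σ c₀ ≠ 0 := hS.ne_zero hc₀
  have hr : σ (c / c₀) = c / c₀ := by
    rw [map_div₀]
    have h1 : σ c = -c := by linear_combination hc0
    have h2 : σ c₀ = -c₀ := by linear_combination hc₀0
    rw [h1, h2, neg_div_neg_eq]
  obtain ⟨l, hl⟩ := Cfsg.Agent.Lib.Helper36.exists_mul_map_eq σ hS.ne hS.invol (c / c₀) hr
  have hl0 : l ≠ 0 := by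
    rintro rfl
    rw [zero_mul] at hl
    exact div_ne_zero hc hc₀ hl.symm
  have h1 : tb hS (l • v) c₀ = tb hS v c := by
    rw [tb_smul hS l hv hc₀0, hl, div_mul_cancel₀ c hc₀]
  obtain ⟨t, ht, htv⟩ := rel_isotropic σ hS.ne hS.invol hn (l • v) e (smul_ne_zero hl0 hv0) he0
    (iso_smul l hv) he
  refine ⟨suOfTG hS t ht, ?_⟩
  rw [← h1, conj_tb hS _ (iso_smul l hv) hc₀0, suOfTG_mat, htv]

/-- a Sylow `p`-subgroup of `PSU` whose centre consists of transvection images -/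
theorem exists_sylow_center [Fintype F] (hF : Fintype.card F = q ^ 2) (hS : Frob σ q)
    (hn : 3 ≤ n) (p : ℕ) [Fact p.Prime] [CharP F p] {e f : Fin n → F} (h : HP σ e f) :
    ∃ P : Sylow p (Cfsg.PSU n F q), (∀ a : F, a + σ a = 0 → tb hS e a ∈ P) ∧
      ∀ z ∈ P, (∀ y ∈ P, z * y = y * z) → ∃ a : F, a + σ a = 0 ∧ z = tb hS e a := by
  have hU : IsPGroup p ((QS (σ := σ) (q := q) e).map
      (QuotientGroup.mk' (Subgroup.center ↥(Cfsg.SU n F q)))) :=
    (isPGroup_QS hS p h.ne_zero h.uu).map _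
  obtain ⟨P, hP⟩ := hU.exists_le_sylow
  refine ⟨P, ?_, ?_⟩
  · intro a ha
    apply hP
    refine Subgroup.mem_map_of_mem _ ?_
    rw [← sS_zero_eq_tS hS h.uu ha]
    exact sS_mem_QS hS (SV.of_tr0 h.uu ha)
  · intro z hz hcomm
    obtain ⟨z₀, rfl⟩ := QuotientGroup.mk_surjective z
    apply centralizer_Q hS hn h
    intro u c hu hv
    apply comm_of_mk_comm hF (by omega) p (sS_pow_char hS p e u c)
    exact hcomm _ (hP (Subgroup.mem_map_of_mem _ (sS_mem_QS hS hv)))

/-- **Automorphisms of `PSU_n(q)` preserve transvection images.** -/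
theorem autPresT [Fintype F] (hF : Fintype.card F = q ^ 2) (hS : Frob σ q)
    (hn : 3 ≤ n) (p : ℕ) [Fact p.Prime] [CharP F p] : AutPresT hS n := by
  obtain ⟨e, f, h⟩ := exists_HP σ hS.ne hS.invol (n := n) (by omega)
  obtain ⟨P, ht₁, hcenter⟩ := exists_sylow_center hF hS hn p h
  obtain ⟨ε, hε0, hε⟩ := exists_trace_zero_ne σ hS.ne hS.invol
  have he0 : e ≠ 0 := h.ne_zero
  -- a non-trivial central element of `P`
  have hPnt : Nontrivial (P : Subgroup (Cfsg.PSU n F q)) := by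
    refine ⟨⟨⟨tb hS e ε, ht₁ ε hε⟩, 1, ?_⟩⟩
    intro h1
    have := congrArg Subtype.val h1
    exact tb_ne_one hF hS (by omega) he0 h.uu hε0 hε this
  have hbot := (P.2 : IsPGroup p (P : Subgroup (Cfsg.PSU n F q))).bot_lt_center
  obtain ⟨w, hwc, hw1⟩ := SetLike.exists_of_lt hbot
  have hw1' : (w : Cfsg.PSU n F q) ≠ 1 := by
    intro h1
    apply hw1
    rw [Subgroup.mem_bot]
    exact Subtype.ext h1
  have hwcomm : ∀ y ∈ P, (w : Cfsg.PSU n F q) * y = y * w := by
    intro y hy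
    have := Subgroup.mem_center_iff.mp hwc ⟨y, hy⟩
    exact (congrArg Subtype.val this).symm
  obtain ⟨c₀, hc₀tr, hc₀⟩ := hcenter w w.2 hwcomm
  have hc₀0 : c₀ ≠ 0 := by
    rintro rfl
    rw [tb_zero hS h.uu] at hc₀
    exact hw1' hc₀
  -- key: the image of this element under any automorphism
  have key : ∀ β : MulAut (Cfsg.PSU n F q), IsT hS (β (tb hS e c₀)) := by
    intro β
    obtain ⟨g, hg⟩ := MulAction.exists_smul_eq (Cfsg.PSU n F q) (β • P) P
    have hg' : MulAut.conj g • (β • (P : Subgroup (Cfsg.PSU n F q))) = P := by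
      have := congrArg (fun Q : Sylow p (Cfsg.PSU n F q) => (Q : Subgroup (Cfsg.PSU n F q))) hg
      simpa [Sylow.coe_subgroup_smul, Sylow.pointwise_smul_def] using this
    set γ : MulAut (Cfsg.PSU n F q) := MulAut.conj g * β with hγ
    have hγmem : ∀ u ∈ P, γ u ∈ P := by
      intro u hu
      have h1 : γ u ∈ MulAut.conj g • (β • (P : Subgroup (Cfsg.PSU n F q))) :=
        Subgroup.smul_mem_pointwise_smul _ _ _ (Subgroup.smul_mem_pointwise_smul _ _ _ hu)
      rw [hg'] at h1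
      exact h1
    have hγsurj : ∀ u' ∈ P, ∃ u ∈ P, γ u = u' := by
      intro u' hu'
      have h1 : u' ∈ MulAut.conj g • (β • (P : Subgroup (Cfsg.PSU n F q))) := by
        rw [hg']
        exact hu'
      rw [Subgroup.mem_pointwise_smul_iff_inv_smul_mem,
        Subgroup.mem_pointwise_smul_iff_inv_smul_mem] at h1
      refine ⟨_, h1, ?_⟩
      simp only [hγ, MulAut.smul_def, MulAut.mul_apply, MulAut.apply_inv_self]
    have hw' : tb hS e c₀ ∈ P := by
      rw [← hc₀]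
      exact w.2
    obtain ⟨c', hc'tr, hc'⟩ := hcenter _ (hγmem _ hw') (by
      intro u' hu'
      obtain ⟨u, hu, rfl⟩ := hγsurj u' hu'
      rw [← map_mul, ← map_mul, ← hc₀, hwcomm u hu])
    have hc'0 : c' ≠ 0 := by
      rintro rfl
      rw [tb_zero hS h.uu] at hc'
      have h1 : tb hS e c₀ = 1 := by
        apply γ.injective
        rw [hc', map_one]
      exact tb_ne_one hF hS (by omega) he0 h.uu hc₀0 hc₀tr h1
    have hβ : β (tb hS e c₀) = (MulAut.conj g)⁻¹ (tb hS e c') := by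
      rw [← hc', hγ, MulAut.mul_apply, ← MulAut.mul_apply, inv_mul_cancel, MulAut.one_apply]
    rw [hβ, ← map_inv]
    obtain ⟨s, rfl⟩ := QuotientGroup.mk_surjective g
    rw [← QuotientGroup.mk_inv, MulAut.conj_apply, conj_tb hS _ h.uu hc'tr]
    exact ⟨_, c', su_mulVec_ne_zero _ he0, iso_mulVec hS _ h.uu, hc'0, hc'tr, rfl⟩
  intro β x hx
  obtain ⟨v, c, hv, hv0, hc, hc0, rfl⟩ := hx
  obtain ⟨g, hg⟩ := exists_conj_tb hS hn he0 h.uu hv hv0 hc₀0 hc₀tr hc hc0
  have h2 : tb hS v c = (MulAut.conj (QuotientGroup.mk g : Cfsg.PSU n F q)) (tb hS e c₀) := by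
    rw [MulAut.conj_apply, hg]
  rw [h2, ← MulAut.mul_apply]
  exact key _

end Cfsg.Agent.Lib.Helper45.PSUAut
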