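/-
helper45: automorphisms of `PSU_n(q)`, step 7: the bijection induced by an automorphism on the
isotropic points (through the transvection groups), and its compatibility with perpendicularity.
-/
import Cfsg.Agent.Lib.Helper45.PSUAut.AutT

set_option autoImplicit false

namespace Cfsg.Agent.Lib.Helper45.PSUAut

open Matrix Cfsg.Agent.S0837 Cfsg.Agent.S0781 Cfsg.Agent.S2644 Cfsg.Agent.Lib.Helper37
  Cfsg.Agent.Lib.Helper45.FTPG

variable {F : Type*} [Field F] {q n : ℕ} {σ : F →+* F}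

/-- a fixed non-zero element of trace zero -/
noncomputable def eps (hS : Frob σ q) : F :=
  Classical.choose (exists_trace_zero_ne σ hS.ne hS.invol)

theorem eps_ne_zero (hS : Frob σ q) : eps hS ≠ 0 :=
  (Classical.choose_spec (exists_trace_zero_ne σ hS.ne hS.invol)).1

theorem eps_tr0 (hS : Frob σ q) : eps hS + σ (eps hS) = 0 :=
  (Classical.choose_spec (exists_trace_zero_ne σ hS.ne hS.invol)).2

/-- `v` represents an isotropic point -/
def IsoPt (σ : F →+* F) (v : Fin n → F) : Prop := v ≠ 0 ∧ hf σ v v = 0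

theorem IsoPt.of_par {v w : Fin n → F} (h : Par (K := F) w v) (hv : IsoPt σ v) : IsoPt σ w :=
  ⟨h.ne_zero hv.1, iso_of_par h hv.2⟩

theorem IsoPt.smul {v : Fin n → F} (hv : IsoPt σ v) {a : F} (ha : a ≠ 0) : IsoPt σ (a • v) :=
  ⟨smul_ne_zero ha hv.1, iso_smul a hv.2⟩

theorem IsoPt.mulVec (hS : Frob σ q) {v : Fin n → F} (hv : IsoPt σ v) (s : ↥(Cfsg.SU n F q)) :
    IsoPt σ (s.1.1 *ᵥ v) := ⟨su_mulVec_ne_zero s hv.1, iso_mulVec hS s hv.2⟩

theorem isT_tb (hS : Frob σ q) {v : Fin n → F} (hv : IsoPt σ v) {c : F} (hc : c ≠ 0)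
    (hc0 : c + σ c = 0) : IsT hS (tb hS v c) := ⟨v, c, hv.1, hv.2, hc, hc0, rfl⟩

/-- the map on vectors underlying the action of `β` on transvection groups -/
noncomputable def pmap (hS : Frob σ q) (hT : AutPresT hS n) (β : MulAut (Cfsg.PSU n F q))
    (v : Fin n → F) : Fin n → F := by
  classical
  exact if h : IsoPt σ v then
    Classical.choose (hT β _ (isT_tb hS h (eps_ne_zero hS) (eps_tr0 hS))) else 0

theorem pmap_spec (hS : Frob σ q) (hT : AutPresT hS n) (β : MulAut (Cfsg.PSU n F q))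
    {v : Fin n → F} (hv : IsoPt σ v) :
    IsoPt σ (pmap hS hT β v) ∧ ∃ d : F, d ≠ 0 ∧ d + σ d = 0 ∧
      β (tb hS v (eps hS)) = tb hS (pmap hS hT β v) d := by
  classical
  have h := Classical.choose_spec (hT β _ (isT_tb hS hv (eps_ne_zero hS) (eps_tr0 hS)))
  obtain ⟨d, h1, h2, h3, h4, h5⟩ := h
  have hp : pmap hS hT β v =
      Classical.choose (hT β _ (isT_tb hS hv (eps_ne_zero hS) (eps_tr0 hS))) := by
    unfold pmap
    rw [dif_pos hv]
  rw [hp]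
  exact ⟨⟨h1, h2⟩, d, h3, h4, h5⟩

theorem pmap_isoPt (hS : Frob σ q) (hT : AutPresT hS n) (β : MulAut (Cfsg.PSU n F q))
    {v : Fin n → F} (hv : IsoPt σ v) : IsoPt σ (pmap hS hT β v) := (pmap_spec hS hT β hv).1

variable [Fintype F]

theorem pmap_tb (hF : Fintype.card F = q ^ 2) (hS : Frob σ q) (hn : 3 ≤ n) (hT : AutPresT hS n)
    (β : MulAut (Cfsg.PSU n F q)) {v : Fin n → F} (hv : IsoPt σ v) {c : F} (hc : c ≠ 0)
    (hc0 : c + σ c = 0) :
    ∃ d : F, d ≠ 0 ∧ d + σ d = 0 ∧ β (tb hS v c) = tb hS (pmap hS hT β v) d := by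
  obtain ⟨hp, d₁, hd₁, hd₁0, h1⟩ := pmap_spec hS hT β hv
  obtain ⟨w, d', hw, hw0, hd', hd'0, h2⟩ := hT β _ (isT_tb hS hv hc hc0)
  have h3 : ∃ (u : Fin n → F) (e : F), hf σ u u = 0 ∧ e + σ e = 0 ∧
      tb hS (pmap hS hT β v) d₁ * tb hS w d' = tb hS u e := by
    rw [← h1, ← h2, ← map_mul, tb_mul hS hv.2 (eps_tr0 hS) hc0]
    by_cases h0 : eps hS + c = 0
    · refine ⟨0, 0, hf_zero_left σ 0, tr0_zero, ?_⟩
      rw [h0, tb_zero hS hv.2, tb_zero_left, map_one]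
    · obtain ⟨u, e, -, hu0, -, he0, h4⟩ :=
        hT β _ (isT_tb hS hv h0 (tr0_add (eps_tr0 hS) hc0))
      exact ⟨u, e, hu0, he0, h4⟩
  obtain ⟨u, e, hu0, he0, h3⟩ := h3
  have h5 := not_I2_of_tb_mul hF hS hn hp.2 hw0 hu0 hd₁0 hd'0 he0 hd₁ hd' h3
  obtain ⟨d'', hd'', hd''0, h6⟩ := tb_of_par hS (par_of_not_I2 hp.1 hw h5) hp.2 hd' hd'0
  exact ⟨d'', hd'', hd''0, by rw [h2, h6]⟩

theorem pmap_perp (hF : Fintype.card F = q ^ 2) (hS : Frob σ q) (hn : 3 ≤ n)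
    (p : ℕ) [Fact p.Prime] [CharP F p] (hT : AutPresT hS n)
    (β : MulAut (Cfsg.PSU n F q)) {v w : Fin n → F} (hv : IsoPt σ v) (hw : IsoPt σ w) :
    hf σ v w = 0 ↔ hf σ (pmap hS hT β v) (pmap hS hT β w) = 0 := by
  obtain ⟨hpv, d₁, hd₁, hd₁0, h1⟩ := pmap_spec hS hT β hv
  obtain ⟨hpw, d₂, hd₂, hd₂0, h2⟩ := pmap_spec hS hT β hw
  rw [← tb_comm_iff hF hS hn p hv.2 hw.2 (eps_ne_zero hS) (eps_ne_zero hS) (eps_tr0 hS)
    (eps_tr0 hS), ← tb_comm_iff hF hS hn p hpv.2 hpw.2 hd₁ hd₂ hd₁0 hd₂0, ← h1, ← h2, ← map_mul,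
    ← map_mul]
  exact ⟨fun h => by rw [h], fun h => β.injective h⟩

/-- the point map respects proportionality, in both directions -/
theorem pmap_par_iff (hF : Fintype.card F = q ^ 2) (hS : Frob σ q) (hn : 3 ≤ n)
    (hT : AutPresT hS n) (β : MulAut (Cfsg.PSU n F q)) {v w : Fin n → F} (hv : IsoPt σ v)
    (hw : IsoPt σ w) :
    Par (K := F) (pmap hS hT β w) (pmap hS hT β v) ↔ Par (K := F) w v := by
  obtain ⟨hpv, d₁, hd₁, hd₁0, h1⟩ := pmap_spec hS hT β hv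
  obtain ⟨hpw, d₂, hd₂, hd₂0, h2⟩ := pmap_spec hS hT β hw
  constructor
  · intro hpar
    apply par_of_not_I2 hv.1 hw.1
    obtain ⟨d₂', hd₂', hd₂'0, h3⟩ := tb_of_par hS hpar hpv.2 hd₂ hd₂0
    have h4 : β (tb hS v (eps hS) * tb hS w (eps hS)) = tb hS (pmap hS hT β v) (d₁ + d₂') := by
      rw [map_mul, h1, h2, h3, tb_mul hS hpv.2 hd₁0 hd₂'0]
    have h5 : ∃ (u : Fin n → F) (e : F), hf σ u u = 0 ∧ e + σ e = 0 ∧
        tb hS v (eps hS) * tb hS w (eps hS) = tb hS u e := by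
      by_cases h0 : d₁ + d₂' = 0
      · refine ⟨0, 0, hf_zero_left σ 0, tr0_zero, ?_⟩
        rw [h0, tb_zero hS hpv.2] at h4
        rw [tb_zero_left]
        apply β.injective
        rw [h4, map_one]
      · obtain ⟨u, e, -, hu0, -, he0, h6⟩ :=
          hT β⁻¹ _ (isT_tb hS hpv h0 (tr0_add hd₁0 hd₂'0))
        refine ⟨u, e, hu0, he0, ?_⟩
        rw [← h6, ← h4]
        simp
    obtain ⟨u, e, hu0, he0, h5⟩ := h5
    exact not_I2_of_tb_mul hF hS hn hv.2 hw.2 hu0 (eps_tr0 hS) (eps_tr0 hS) he0 (eps_ne_zero hS)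
      (eps_ne_zero hS) h5
  · intro hpar
    obtain ⟨c', hc', hc'0, h3⟩ := tb_of_par hS hpar hv.2 (eps_ne_zero hS) (eps_tr0 hS)
    obtain ⟨d₃, hd₃, hd₃0, h4⟩ := pmap_tb hF hS hn hT β hv hc' hc'0
    have h5 : tb hS (pmap hS hT β w) d₂ = tb hS (pmap hS hT β v) d₃ := by
      rw [← h2, h3, h4]
    exact par_of_tb_eq hF hS hn hpv.1 hpw.1 hpv.2 hpw.2 hd₃ hd₂ hd₃0 hd₂0 h5.symm

theorem pmap_surj (hF : Fintype.card F = q ^ 2) (hS : Frob σ q) (hn : 3 ≤ n) (hT : AutPresT hS n)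
    (β : MulAut (Cfsg.PSU n F q)) {w : Fin n → F} (hw : IsoPt σ w) :
    ∃ v : Fin n → F, IsoPt σ v ∧ Par (K := F) (pmap hS hT β v) w := by
  obtain ⟨v, c, hv, hv0, hc, hc0, h1⟩ := hT β⁻¹ _ (isT_tb hS hw (eps_ne_zero hS) (eps_tr0 hS))
  have hvp : IsoPt σ v := ⟨hv, hv0⟩
  obtain ⟨d, hd, hd0, h2⟩ := pmap_tb hF hS hn hT β hvp hc hc0
  have h3 : tb hS w (eps hS) = tb hS (pmap hS hT β v) d := by
    rw [← h2, ← h1]
    simp
  have hp := pmap_isoPt hS hT β hvp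
  exact ⟨v, hvp, par_of_tb_eq hF hS hn hw.1 hp.1 hw.2 hp.2 (eps_ne_zero hS) hd (eps_tr0 hS) hd0 h3⟩

/-! ### Root groups as sets -/

/-- membership in the transvection group with centre `v` -/
def InX (hS : Frob σ q) (v : Fin n → F) (x : Cfsg.PSU n F q) : Prop :=
  ∃ c : F, c + σ c = 0 ∧ x = tb hS v c

omit [Fintype F] in
theorem inX_one (hS : Frob σ q) {v : Fin n → F} (hv : hf σ v v = 0) : InX hS v 1 :=
  ⟨0, tr0_zero, (tb_zero hS hv).symm⟩

omit [Fintype F] in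
theorem inX_of_par (hS : Frob σ q) {v w : Fin n → F} (h : Par (K := F) w v) (hv : hf σ v v = 0)
    {x : Cfsg.PSU n F q} (hx : InX hS w x) : InX hS v x := by
  obtain ⟨c, hc0, rfl⟩ := hx
  obtain ⟨a, -, rfl⟩ := h
  exact ⟨a * σ a * c, tr0_norm_mul hS a hc0, tb_smul hS a hv hc0⟩

/-- `β` maps the transvection group of `v` onto that of `pmap v` -/
theorem inX_pmap_iff (hF : Fintype.card F = q ^ 2) (hS : Frob σ q) (hn : 3 ≤ n)
    (hT : AutPresT hS n) (β : MulAut (Cfsg.PSU n F q)) {v : Fin n → F} (hv : IsoPt σ v)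
    (x : Cfsg.PSU n F q) : InX hS (pmap hS hT β v) (β x) ↔ InX hS v x := by
  have hp := pmap_isoPt hS hT β hv
  constructor
  · rintro ⟨d, hd0, h1⟩
    by_cases hd : d = 0
    · rw [hd, tb_zero hS hp.2] at h1
      have : x = 1 := β.injective (by rw [h1, map_one])
      rw [this]
      exact inX_one hS hv.2
    · obtain ⟨u, c₁, hu, hu0, hc₁, hc₁0, h2⟩ := hT β⁻¹ _ (isT_tb hS hp hd hd0)
      have hup : IsoPt σ u := ⟨hu, hu0⟩
      have hx : x = tb hS u c₁ := by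
        rw [← h2, ← h1]
        simp
      obtain ⟨d', hd', hd'0, h3⟩ := pmap_tb hF hS hn hT β hup hc₁ hc₁0
      have h4 : tb hS (pmap hS hT β v) d = tb hS (pmap hS hT β u) d' := by
        rw [← h1, hx, h3]
      have hpu := pmap_isoPt hS hT β hup
      have h5 : Par (K := F) (pmap hS hT β u) (pmap hS hT β v) :=
        par_of_tb_eq hF hS hn hp.1 hpu.1 hp.2 hpu.2 hd hd' hd0 hd'0 h4
      have h6 : Par (K := F) u v := (pmap_par_iff hF hS hn hT β hv hup).mp h5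
      rw [hx]
      exact inX_of_par hS h6 hv.2 ⟨c₁, hc₁0, rfl⟩
  · rintro ⟨c, hc0, rfl⟩
    by_cases hc : c = 0
    · rw [hc, tb_zero hS hv.2, map_one]
      exact inX_one hS hp.2
    · obtain ⟨d, -, hd0, h1⟩ := pmap_tb hF hS hn hT β hv hc hc0
      exact ⟨d, hd0, h1⟩

end Cfsg.Agent.Lib.Helper45.PSUAut
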