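/-
helper45: automorphisms of `PSU_n(q)`, step 8: the action of elements of `PSU` on isotropic points,
described through the transvection groups, its equivariance under automorphisms; collinearity on
totally isotropic lines through perpendicularity.
-/
import Cfsg.Agent.Lib.Helper45.PSUAut.Points

set_option autoImplicit false

namespace Cfsg.Agent.Lib.Helper45.PSUAut

open Matrix Cfsg.Agent.S0837 Cfsg.Agent.S0781 Cfsg.Agent.S2644 Cfsg.Agent.Lib.Helper37
  Cfsg.Agent.Lib.Helper45.FTPG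

variable {F : Type*} [Field F] {q n : ℕ} {σ : F →+* F}

/-- `x` conjugates the transvection group of `v` into that of `v'` -/
def Mv (hS : Frob σ q) (x : Cfsg.PSU n F q) (v v' : Fin n → F) : Prop :=
  ∀ y, InX hS v y → InX hS v' (x * y * x⁻¹)

theorem mv_mk (hS : Frob σ q) (s : ↥(Cfsg.SU n F q)) {v : Fin n → F} (hv : hf σ v v = 0) :
    Mv hS (QuotientGroup.mk s) v (s.1.1 *ᵥ v) := by
  rintro y ⟨c, hc0, rfl⟩
  exact ⟨c, hc0, conj_tb hS s hv hc0⟩

theorem Mv.of_par_right (hS : Frob σ q) {x : Cfsg.PSU n F q} {v v' v'' : Fin n → F}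
    (h : Mv hS x v v') (hpar : Par (K := F) v' v'') (hv'' : hf σ v'' v'' = 0) : Mv hS x v v'' :=
  fun y hy => inX_of_par hS hpar hv'' (h y hy)

theorem Mv.of_par_left (hS : Frob σ q) {x : Cfsg.PSU n F q} {v v' v'' : Fin n → F}
    (h : Mv hS x v v') (hpar : Par (K := F) v'' v) (hv : hf σ v v = 0) : Mv hS x v'' v' :=
  fun y hy => h y (inX_of_par hS hpar hv hy)

variable [Fintype F]

/-- if the class of `s` moves the point `v` to `v'` then `s v` is proportional to `v'` -/
theorem par_of_mv_mk (hF : Fintype.card F = q ^ 2) (hS : Frob σ q) (hn : 3 ≤ n)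
    {s : ↥(Cfsg.SU n F q)} {v v' : Fin n → F} (hv : IsoPt σ v) (hv' : IsoPt σ v')
    (h : Mv hS (QuotientGroup.mk s) v v') : Par (K := F) v' (s.1.1 *ᵥ v) := by
  obtain ⟨c', hc'0, h1⟩ := h _ ⟨eps hS, eps_tr0 hS, rfl⟩
  rw [conj_tb hS s hv.2 (eps_tr0 hS)] at h1
  have hsv := hv.mulVec hS s
  have hc' : c' ≠ 0 := by
    rintro rfl
    rw [tb_zero hS hv'.2] at h1
    exact tb_ne_one hF hS (by omega) hsv.1 hsv.2 (eps_ne_zero hS) (eps_tr0 hS) h1
  exact par_of_tb_eq hF hS hn hsv.1 hv'.1 hsv.2 hv'.2 (eps_ne_zero hS) hc' (eps_tr0 hS) hc'0 h1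

/-- equivariance of the action on points -/
theorem mv_pmap_iff (hF : Fintype.card F = q ^ 2) (hS : Frob σ q) (hn : 3 ≤ n)
    (hT : AutPresT hS n) (β : MulAut (Cfsg.PSU n F q)) {v v' : Fin n → F} (hv : IsoPt σ v)
    (hv' : IsoPt σ v') (x : Cfsg.PSU n F q) :
    Mv hS (β x) (pmap hS hT β v) (pmap hS hT β v') ↔ Mv hS x v v' := by
  constructor
  · intro h y hy
    have h1 := h (β y) ((inX_pmap_iff hF hS hn hT β hv y).mpr hy)
    rw [← map_inv, ← map_mul, ← map_mul] at h1
    exact (inX_pmap_iff hF hS hn hT β hv' _).mp h1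
  · intro h y hy
    obtain ⟨y₀, rfl⟩ := β.surjective y
    have h1 := h y₀ ((inX_pmap_iff hF hS hn hT β hv y₀).mp hy)
    rw [← map_inv, ← map_mul, ← map_mul]
    exact (inX_pmap_iff hF hS hn hT β hv' _).mpr h1

omit [Fintype F] in
/-- a linear functional on the standard space is represented by the form -/
theorem exists_repr (hS : Frob σ q) (φ : (Fin n → F) →ₗ[F] F) :
    ∃ s : Fin n → F, ∀ x, φ x = hf σ x s := by
  refine ⟨fun i => σ (φ (Pi.single i 1)), fun x => ?_⟩
  unfold hf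
  simp only [hS.invol]
  have hx : x = ∑ i, x i • (Pi.single i (1 : F) : Fin n → F) := by
    ext j
    simp [Finset.sum_apply, Pi.single_apply]
  conv_lhs => rw [hx]
  rw [map_sum]
  refine Finset.sum_congr rfl fun i _ => ?_
  rw [map_smul, smul_eq_mul]

omit [Fintype F] in
/-- a vector outside the span of two vectors is separated from them by the form -/
theorem exists_perp_not (hS : Frob σ q) {x y z : Fin n → F} (hz : ¬ Sp2 (K := F) x y z) :
    ∃ s : Fin n → F, hf σ s x = 0 ∧ hf σ s y = 0 ∧ hf σ s z = 1 := by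
  have hz' : z ∉ Submodule.span F ({x, y} : Set (Fin n → F)) := by
    intro hmem
    rw [Submodule.mem_span_pair] at hmem
    obtain ⟨a, b, hab⟩ := hmem
    exact hz ⟨a, b, hab.symm⟩
  obtain ⟨φ, hφz, hφ⟩ := Submodule.exists_dual_map_eq_bot_of_notMem hz' inferInstance
  obtain ⟨s, hs⟩ := exists_repr hS φ
  have hφx : φ x = 0 := by
    have : φ x ∈ (Submodule.span F ({x, y} : Set (Fin n → F))).map φ :=
      Submodule.mem_map_of_mem (Submodule.subset_span (by simp))
    rw [hφ] at this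
    exact this
  have hφy : φ y = 0 := by
    have : φ y ∈ (Submodule.span F ({x, y} : Set (Fin n → F))).map φ :=
      Submodule.mem_map_of_mem (Submodule.subset_span (by simp))
    rw [hφ] at this
    exact this
  have hsz : hf σ s z ≠ 0 := by
    intro h0
    apply hφz
    rw [hs]
    exact hS.hf_eq_zero_symm h0
  have hsx : hf σ s x = 0 := by
    apply hS.hf_eq_zero_symm
    rw [← hs]
    exact hφx
  have hsy : hf σ s y = 0 := by
    apply hS.hf_eq_zero_symm
    rw [← hs]
    exact hφy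
  refine ⟨(hf σ s z)⁻¹ • s, ?_, ?_, ?_⟩
  · rw [hf_smul_left, hsx, mul_zero]
  · rw [hf_smul_left, hsy, mul_zero]
  · rw [hf_smul_left, inv_mul_cancel₀ hsz]

/-- collinearity on a totally isotropic line, through perpendicularity to isotropic points -/
def Coll (σ : F →+* F) (e z z' : Fin n → F) : Prop :=
  ∀ x, IsoPt σ x → hf σ x e = 0 → hf σ x z = 0 → hf σ x z' = 0

omit [Fintype F] in
theorem coll_of_sp2 {e z z' : Fin n → F} (h : Sp2 (K := F) e z z') :
    Coll σ e z z' := by
  obtain ⟨a, b, rfl⟩ := h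
  intro x _ hxe hxz
  rw [hf_add_right, hf_smul_right, hf_smul_right, hxe, hxz, mul_zero, mul_zero, add_zero]

omit [Fintype F] in
theorem sp2_of_coll (hS : Frob σ q) {e z z' : Fin n → F} (he : IsoPt σ e) (hz : IsoPt σ z)
    (hz' : hf σ z' z' = 0) (hez : hf σ e z = 0) (h : Coll σ e z z') : Sp2 (K := F) e z z' := by
  by_contra hns
  have h1 : hf σ z' e = 0 := hS.hf_eq_zero_symm (h e he he.2 hez)
  have h2 : hf σ z' z = 0 := hS.hf_eq_zero_symm (h z hz (hS.hf_eq_zero_symm hez) hz.2)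
  obtain ⟨x₀, hx₀e, hx₀z, hx₀z'⟩ := exists_perp_not hS hns
  obtain ⟨a, ha⟩ := trace_surj σ hS.ne hS.invol (-hf σ x₀ x₀) (by
    rw [map_neg, hf_self_fixed σ hS.invol])
  have hz'x₀ : hf σ z' x₀ = 1 := by rw [hf_symm σ hS.invol, hx₀z', map_one]
  set x := x₀ + a • z' with hx
  have hxz' : hf σ x z' = 1 := by
    rw [hx, hf_add_left, hf_smul_left, hz', mul_zero, add_zero, hx₀z']
  have hxx : hf σ x x = 0 := by
    rw [hx]
    simp only [hf_add_left, hf_add_right, hf_smul_left, hf_smul_right, hz', hx₀z', hz'x₀]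
    linear_combination ha
  have hx0 : x ≠ 0 := by
    intro h0
    rw [h0, hf_zero_left] at hxz'
    exact zero_ne_one hxz'
  have h3 := h x ⟨hx0, hxx⟩ (by rw [hx, hf_add_left, hf_smul_left, hx₀e, h1, mul_zero, add_zero])
    (by rw [hx, hf_add_left, hf_smul_left, hx₀z, h2, mul_zero, add_zero])
  rw [hxz'] at h3
  exact one_ne_zero h3

end Cfsg.Agent.Lib.Helper45.PSUAut
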