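/-
helper45: automorphisms of `PSU_n(q)`, step 9: a matrix on the standard Hermitian space having every
isotropic vector as an eigenvector is scalar (matrix version of helper37's `central_of_fix`).
-/
import Cfsg.Agent.Lib.Helper45.PSUAut.Moves
import Cfsg.Agent.Lib.Helper37.UnitarySimple

set_option autoImplicit false

namespace Cfsg.Agent.Lib.Helper45.PSUAut

open Matrix Cfsg.Agent.S0837 Cfsg.Agent.S0781 Cfsg.Agent.S2644 Cfsg.Agent.Lib.Helper37
  Cfsg.Agent.Lib.Helper45.FTPG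

variable {F : Type*} [Field F] {q : ℕ} {σ : F →+* F}

/-- eigenvalues on two non-orthogonal isotropic eigenvectors agree -/
theorem eig_eq_of_nonperp' (hS : Frob σ q) {k : ℕ} (M : Matrix (Fin k) (Fin k) F)
    (h : ∀ u : Fin k → F, u ≠ 0 → hf σ u u = 0 → ∃ l : F, M *ᵥ u = l • u)
    (x y : Fin k → F) (hx : hf σ x x = 0) (hy : hf σ y y = 0) (hyx : hf σ y x ≠ 0) (a b : F)
    (hgx : M *ᵥ x = a • x) (hgy : M *ᵥ y = b • y) : a = b := by
  obtain ⟨ε, hε, hε0⟩ := exists_trace_zero_ne σ hS.ne hS.invol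
  set d := hf σ y x with hd
  have hxy : hf σ x y = σ d := hf_symm σ hS.invol x y
  have hσd : σ d ≠ 0 := hS.ne_zero hyx
  obtain ⟨w, hw⟩ : ∃ w, w = x + (ε / d) • y := ⟨_, rfl⟩
  have hww : hf σ w w = 0 := by
    rw [hw]
    simp only [hf_add_left, hf_add_right, hf_smul_left, hf_smul_right, hx, hy, hxy, ← hd,
      map_div₀]
    have h1 : ε / d * d = ε := div_mul_cancel₀ _ hyx
    have h2 : σ ε / σ d * σ d = σ ε := div_mul_cancel₀ _ hσd
    linear_combination h1 + h2 + hε0
  have hwx : hf σ w x = ε := by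
    rw [hw, hf_add_left, hf_smul_left, hx, ← hd, div_mul_cancel₀ _ hyx, zero_add]
  have hw0 : w ≠ 0 := by
    rintro rfl
    rw [hf_zero_left] at hwx
    exact hε hwx.symm
  obtain ⟨c, hc⟩ := h w hw0 hww
  have hgw : M *ᵥ w = a • x + (ε / d * b) • y := by
    rw [hw, mulVec_add, mulVec_smul, hgx, hgy, smul_smul]
  rw [hgw, hw] at hc
  have h1 := congrArg (fun z => hf σ z y) hc
  have h2 := congrArg (fun z => hf σ z x) hc
  simp only [hf_add_left, hf_smul_left, hx, hy, hxy, ← hd] at h1 h2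
  have hac : a = c := by
    have : (a - c) * σ d = 0 := by linear_combination h1
    rcases mul_eq_zero.mp this with h3 | h3
    · linear_combination h3
    · exact absurd h3 hσd
  have hbc : b = c := by
    have h3 : ε / d * d = ε := div_mul_cancel₀ _ hyx
    have : (b - c) * ε = 0 := by
      have h4 : ε / d * b * d = c * (ε / d * d) := by linear_combination h2
      rw [h3] at h4
      have h5 : ε / d * b * d = b * (ε / d * d) := by ring
      rw [h5, h3] at h4
      linear_combination h4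
    rcases mul_eq_zero.mp this with h3 | h3
    · linear_combination h3
    · exact absurd h3 hε
  rw [hac, hbc]

/-- a matrix having all isotropic vectors as eigenvectors is scalar -/
theorem scalar_of_fix_iso [Finite F] (hS : Frob σ q) {k : ℕ} (M : Matrix (Fin k) (Fin k) F)
    (h : ∀ u : Fin k → F, u ≠ 0 → hf σ u u = 0 → ∃ l : F, M *ᵥ u = l • u) :
    ∃ a : F, ∀ y, M *ᵥ y = a • y := by
  rcases Nat.lt_or_ge k 2 with hk | hk
  · rcases Nat.lt_or_ge k 1 with hk0 | hk1
    · have : k = 0 := by omega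
      subst this
      exact ⟨0, fun y => by ext i; exact i.elim0⟩
    · have : k = 1 := by omega
      subst this
      refine ⟨M 0 0, fun y => ?_⟩
      ext i
      have hi : i = 0 := Subsingleton.elim _ _
      subst hi
      simp [mulVec, dotProduct]
  obtain ⟨u₁, v₁, hp⟩ := exists_HP σ hS.ne hS.invol hk
  obtain ⟨a, ha⟩ := h u₁ hp.ne_zero hp.uu
  have hiso : ∀ w : Fin k → F, w ≠ 0 → hf σ w w = 0 → M *ᵥ w = a • w := by
    intro w hw0 hww
    obtain ⟨c, hc⟩ := h w hw0 hww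
    obtain ⟨z, hzz, hzu, hzw⟩ := exists_common σ hS.ne hS.invol u₁ w hp.ne_zero hw0 hp.uu hww
    have hz0 : z ≠ 0 := by
      rintro rfl
      exact hzu (hf_zero_left σ u₁)
    obtain ⟨b, hb⟩ := h z hz0 hzz
    have h1 := eig_eq_of_nonperp' hS M h u₁ z hp.uu hzz hzu a b ha hb
    have h2 := eig_eq_of_nonperp' hS M h w z hww hzz hzw c b hc hb
    rw [hc, h2, ← h1]
  have hv₁ : M *ᵥ v₁ = a • v₁ := hiso v₁ (hp.symm hS.invol).ne_zero hp.vv
  refine ⟨a, fun y => ?_⟩
  obtain ⟨x, hx⟩ : ∃ x, x = pr σ u₁ v₁ y := ⟨_, rfl⟩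
  have hxu : hf σ x u₁ = 0 := by rw [hx]; exact hf_pr_u σ hp y
  have hxv : hf σ x v₁ = 0 := by rw [hx]; exact hf_pr_v σ hS.invol hp y
  have hux : hf σ u₁ x = 0 := hS.hf_eq_zero_symm hxu
  have hvx : hf σ v₁ x = 0 := hS.hf_eq_zero_symm hxv
  obtain ⟨α, hα⟩ := trace_surj σ hS.ne hS.invol (-(hf σ x x)) (by
    rw [map_neg, hf_self_fixed σ hS.invol])
  obtain ⟨z, hz⟩ : ∃ z, z = x + α • u₁ + v₁ := ⟨_, rfl⟩
  have hzz : hf σ z z = 0 := by
    rw [hz]
    simp only [hf_add_left, hf_add_right, hf_smul_left, hf_smul_right, hp.uu, hp.vv, hp.vu,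
      hp.uv hS.invol, hxu, hxv, hux, hvx]
    linear_combination hα
  have hzu : hf σ z u₁ = 1 := by
    rw [hz]
    simp only [hf_add_left, hf_smul_left, hp.uu, hp.vu, hxu]
    ring
  have hz0 : z ≠ 0 := by
    rintro rfl
    rw [hf_zero_left] at hzu
    exact zero_ne_one hzu
  have hgz := hiso z hz0 hzz
  have hxz : x = z - α • u₁ - v₁ := by rw [hz]; abel
  have hgx : M *ᵥ x = a • x := by
    rw [hxz, mulVec_sub, mulVec_sub, mulVec_smul, hgz, ha, hv₁]
    module
  have hy := pr_eq σ u₁ v₁ y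
  rw [← hx] at hy
  rw [hy, mulVec_add, mulVec_add, mulVec_smul, mulVec_smul, ha, hv₁, hgx]
  module

end Cfsg.Agent.Lib.Helper45.PSUAut
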