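/-
helper45: automorphisms of `PSU_n(q)`, step 10: a group-theoretic description of the image of `Q_e`
in `PSU`, and the normal form of the elements satisfying it.
-/
import Cfsg.Agent.Lib.Helper45.PSUAut.Scalar

set_option autoImplicit false

namespace Cfsg.Agent.Lib.Helper45.PSUAut

open Matrix Cfsg.Agent.S0837 Cfsg.Agent.S0781 Cfsg.Agent.S2644 Cfsg.Agent.Lib.Helper37
  Cfsg.Agent.Lib.Helper45.FTPG

variable {F : Type*} [Field F] {q n : ℕ} {σ : F →+* F}

/-- the orthogonal complement of a hyperbolic pair as a submodule -/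
def Wsub (σ : F →+* F) (e f : Fin n → F) : Submodule F (Fin n → F) where
  carrier := {w | InW σ e f w}
  add_mem' := fun ha hb => ha.add hb
  zero_mem' := InW.zero e f
  smul_mem' := fun c _ hx => hx.smul c

theorem mem_Wsub {e f w : Fin n → F} : w ∈ Wsub σ e f ↔ InW σ e f w := Iff.rfl

theorem hf_pr_right {e f : Fin n → F} {u : Fin n → F}
    (hu : InW σ e f u) (x : Fin n → F) : hf σ u (pr σ e f x) = hf σ u x := by
  conv_rhs => rw [pr_eq σ e f x]
  simp only [hf_add_right, hf_smul_right, hu.1, hu.2, mul_zero, zero_add]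

/-- an isometric parametrisation of the complement of a hyperbolic pair -/
theorem exists_W_frame [Finite F] (hS : Frob σ q) {e f : Fin n → F} (h : HP σ e f) :
    ∃ (k : ℕ) (E : Matrix (Fin n) (Fin k) F), hs σ E * E = 1 ∧ (∀ y, InW σ e f (E *ᵥ y)) ∧
      ∀ w, InW σ e f w → ∃ y, E *ᵥ y = w := by
  have hW : ∀ u ∈ Wsub σ e f, (∀ v ∈ Wsub σ e f, hf σ u v = 0) → u = 0 := by
    intro u hu hperp
    apply hf_right_nondeg hS
    intro x
    rw [← hf_pr_right hu x]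
    exact hperp _ (InW.of_pr hS h x)
  obtain ⟨E, h1, h2, h3⟩ := exists_frame σ hS.ne hS.invol (Wsub σ e f) hW
  exact ⟨_, E, h1, h2, h3⟩

theorem frame_isometry {k : ℕ} {E : Matrix (Fin n) (Fin k) F} (hE : hs σ E * E = 1)
    (y y' : Fin k → F) : hf σ (E *ᵥ y) (E *ᵥ y') = hf σ y y' := by
  rw [hf_adjoint, Matrix.mulVec_mulVec, hE, Matrix.one_mulVec]

theorem frame_left_inv {k : ℕ} {E : Matrix (Fin n) (Fin k) F} (hE : hs σ E * E = 1)
    (y : Fin k → F) : hs σ E *ᵥ (E *ᵥ y) = y := by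
  rw [Matrix.mulVec_mulVec, hE, Matrix.one_mulVec]

theorem frame_adj_of_perp {k : ℕ} {E : Matrix (Fin n) (Fin k) F} {e f : Fin n → F}
    (hEW : ∀ y, InW σ e f (E *ᵥ y)) {x : Fin n → F}
    (hx : ∀ w, InW σ e f w → hf σ x w = 0) : hs σ E *ᵥ x = 0 := by
  ext i
  rw [hs_mulVec_apply, Pi.zero_apply]
  have : E.col i = E *ᵥ Pi.single i 1 := by rw [Matrix.mulVec_single_one]
  rw [this]
  exact hx _ (hEW _)

/-- normal form of a matrix preserving the form, fixing `e` and acting trivially on `e^⊥/e` -/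
theorem exists_sieg_of_matrix (hS : Frob σ q) {e f : Fin n → F} (h : HP σ e f)
    (M : Matrix (Fin n) (Fin n) F) (hM : ∀ x y, hf σ (M *ᵥ x) (M *ᵥ y) = hf σ x y)
    (hge : M *ᵥ e = e) (hg' : ∀ x, hf σ x e = 0 → ∃ μ : F, M *ᵥ x = x + μ • e) :
    ∃ (w : Fin n → F) (c : F), InW σ e f w ∧ SV σ e w c ∧ M = sieg σ e w c := by
  set y := M *ᵥ f with hy
  have hye : hf σ y e = 1 := by
    conv_lhs => rw [← hge]
    rw [hy, hM, h.vu]
  have hyy : hf σ y y = 0 := by rw [hy, hM, h.vv]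
  set w := pr σ e f y with hw
  set c := hf σ y f with hc
  have hwW : InW σ e f w := InW.of_pr hS h y
  have hydec : y = c • e + f + w := by
    have := pr_eq σ e f y
    rw [hye, one_smul] at this
    exact this
  have hv : SV σ e w c := by
    refine ⟨h.uu, hwW.1, ?_⟩
    have h1 := hf_decomp hS h y y
    rw [hyy, hye, map_one, mul_one, one_mul] at h1
    linear_combination -h1
  refine ⟨w, c, hwW, hv, ?_⟩
  apply Matrix.ext_iff_mulVec.mpr
  intro x
  set x' := x - hf σ x e • f with hx'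
  have hx'e : hf σ x' e = 0 := by
    rw [hx', hf_sub_left, hf_smul_left, h.vu, mul_one, sub_self]
  obtain ⟨μ, hμ⟩ := hg' x' hx'e
  have hxdec : x = hf σ x e • f + x' := by rw [hx']; abel
  have h2 : hf σ (M *ᵥ x') y = hf σ x' f := by rw [hy, hM]
  have hey : hf σ e y = 1 := by rw [hf_symm σ hS.invol, hye, map_one]
  have hμ' : μ = -hf σ x' w := by
    rw [hμ, hf_add_left, hf_smul_left, hey, mul_one] at h2
    have h3 : hf σ x' y = hf σ x' f + hf σ x' w := by
      rw [hydec]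
      simp only [hf_add_right, hf_smul_right, hx'e]
      ring
    linear_combination h2 - h3
  have hxw : hf σ x w = hf σ x' w := by
    rw [hx', hf_sub_left, hf_smul_left, hwW.f' hS, mul_zero, sub_zero]
  conv_lhs => rw [hxdec, Matrix.mulVec_add, Matrix.mulVec_smul, ← hy, hμ, hμ']
  rw [sieg_mulVec, hxw, hydec]
  simp only [hx']
  module

/-- group-theoretic description of the image of `Q_e` in `PSU` -/
def InQbar (hS : Frob σ q) (p : ℕ) (e : Fin n → F) (x : Cfsg.PSU n F q) : Prop :=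
  (∃ j : ℕ, x ^ (p ^ j) = 1) ∧ Mv hS x e e ∧
    ∀ z z' : Fin n → F, IsoPt σ z → IsoPt σ z' → hf σ z e = 0 → Mv hS x z z' → Coll σ e z z'

variable [Fintype F]

/-- the classes of Siegel elements satisfy the description -/
theorem inQbar_sS (hF : Fintype.card F = q ^ 2) (hS : Frob σ q) (hn : 3 ≤ n) (p : ℕ)
    [CharP F p] {e u : Fin n → F} {c : F} (hv : SV σ e u c) :
    InQbar hS p e (QuotientGroup.mk (sS hS e u c)) := by
  refine ⟨⟨2, ?_⟩, ?_, ?_⟩
  · rw [← QuotientGroup.mk_pow, sS_pow_char hS p]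
    rfl
  · have := mv_mk hS (sS hS e u c) hv.iso
    rwa [sS_mulVec_self hS hv] at this
  · intro z z' hz hz' hze hmv
    have hpar := par_of_mv_mk hF hS hn hz hz' hmv
    rw [sS_mulVec_of_perp hS hv hze] at hpar
    obtain ⟨a, -, ha⟩ := hpar
    apply coll_of_sp2
    refine ⟨-(a * hf σ z u), a, ?_⟩
    rw [ha]
    module

/-- normal form of the elements satisfying the description -/
theorem exists_sS_of_inQbar (hF : Fintype.card F = q ^ 2) (hS : Frob σ q) (hn : 3 ≤ n) (p : ℕ)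
    [Fact p.Prime] [CharP F p] {e f : Fin n → F} (h : HP σ e f) {g : ↥(Cfsg.SU n F q)}
    (hg : InQbar hS p e (QuotientGroup.mk g)) :
    ∃ (w : Fin n → F) (c : F), InW σ e f w ∧ SV σ e w c ∧
      (QuotientGroup.mk g : Cfsg.PSU n F q) = QuotientGroup.mk (sS hS e w c) := by
  obtain ⟨⟨j, hj⟩, hge, hcoll⟩ := hg
  have hep : IsoPt σ e := ⟨h.ne_zero, h.uu⟩
  -- (a) `g e = l e`
  obtain ⟨l, hl0, hgel⟩ : ∃ l : F, l ≠ 0 ∧ g.1.1 *ᵥ e = l • e := by
    obtain ⟨a, ha, hae⟩ := par_of_mv_mk hF hS hn hep hep hge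
    refine ⟨a⁻¹, inv_ne_zero ha, ?_⟩
    calc g.1.1 *ᵥ e = a⁻¹ • (a • g.1.1 *ᵥ e) := by rw [smul_smul, inv_mul_cancel₀ ha, one_smul]
      _ = a⁻¹ • e := by rw [← hae]
  have hperp_e : ∀ x, hf σ x e = 0 → hf σ (g.1.1 *ᵥ x) e = 0 := by
    intro x hx
    have h1 := su_pres hS g x e
    rw [hgel, hf_smul_right, hx] at h1
    exact (mul_eq_zero.mp h1).resolve_left (hS.ne_zero hl0)
  -- (b) isotropic points of `e^⊥` are fixed modulo `e`
  have hiso : ∀ z, IsoPt σ z → hf σ z e = 0 → Sp2 (K := F) e z (g.1.1 *ᵥ z) := by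
    intro z hz hze
    have hgz := hz.mulVec hS g
    exact sp2_of_coll hS hep hz hgz.2 (hS.hf_eq_zero_symm hze)
      (hcoll z _ hz hgz hze (mv_mk hS g hz.2))
  -- (c) the action on `W` is scalar
  obtain ⟨k, E, hE, hEW, hWE⟩ := exists_W_frame hS h
  have hEe : hs σ E *ᵥ e = 0 :=
    frame_adj_of_perp hEW (fun w hw => hw.e' hS)
  obtain ⟨μ, hμ⟩ := scalar_of_fix_iso hS (hs σ E * g.1.1 * E) (by
    intro y hy0 hyy
    have hEy0 : E *ᵥ y ≠ 0 := by
      intro h0
      apply hy0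
      rw [← frame_left_inv hE y, h0, Matrix.mulVec_zero]
    have hEyy : hf σ (E *ᵥ y) (E *ᵥ y) = 0 := by rw [frame_isometry hE, hyy]
    obtain ⟨a, b, hab⟩ := hiso _ ⟨hEy0, hEyy⟩ (hEW y).1
    refine ⟨b, ?_⟩
    rw [← Matrix.mulVec_mulVec, ← Matrix.mulVec_mulVec, hab, Matrix.mulVec_add,
      Matrix.mulVec_smul, Matrix.mulVec_smul, hEe, smul_zero, zero_add, frame_left_inv hE])
  -- (d) `g w = μ w + ν e` on `W`
  have hgw : ∀ w, InW σ e f w → g.1.1 *ᵥ w = hf σ (g.1.1 *ᵥ w) f • e + μ • w := by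
    intro w hw
    have h1 := pr_eq σ e f (g.1.1 *ᵥ w)
    rw [hperp_e w hw.1, zero_smul, add_zero] at h1
    obtain ⟨y₁, hy₁⟩ := hWE w hw
    obtain ⟨y₂, hy₂⟩ := hWE _ (InW.of_pr hS h (g.1.1 *ᵥ w))
    have h2 := hμ y₁
    rw [← Matrix.mulVec_mulVec, ← Matrix.mulVec_mulVec, hy₁, h1, Matrix.mulVec_add,
      Matrix.mulVec_smul, hEe, smul_zero, zero_add, ← hy₂, frame_left_inv hE] at h2
    have h3 : pr σ e f (g.1.1 *ᵥ w) = μ • w := by
      rw [← hy₂, h2, Matrix.mulVec_smul, hy₁]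
    rw [h3] at h1
    exact h1
  -- (e) `g x = μ x + c e` on `e^⊥`
  have hgx : ∀ x, hf σ x e = 0 → ∃ c : F, g.1.1 *ᵥ x = μ • x + c • e := by
    intro x hx
    have h1 := pr_eq σ e f x
    rw [hx, zero_smul, add_zero] at h1
    refine ⟨hf σ x f * l + hf σ (g.1.1 *ᵥ (pr σ e f x)) f - μ * hf σ x f, ?_⟩
    conv_lhs => rw [h1, Matrix.mulVec_add, Matrix.mulVec_smul, hgel, hgw _ (InW.of_pr hS h x)]
    rw [show μ • x = μ • (hf σ x f • e + pr σ e f x) from by rw [← h1]]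
    module
  -- an anisotropic vector of `W`
  obtain ⟨u₀, hu₀e, hu₀f, hu₀⟩ := exists_aniso_perp σ hS.ne hS.invol hn h
  -- (f) `l = μ` since the class of `g` has `p`-power order
  have hpow : ∀ i : ℕ, (g ^ i).1.1 *ᵥ e = l ^ i • e ∧
      ∀ x, hf σ x e = 0 → ∃ c : F, (g ^ i).1.1 *ᵥ x = μ ^ i • x + c • e := by
    intro i
    induction i with
    | zero =>
      refine ⟨by rw [pow_zero, pow_zero, su_one_mulVec, one_smul], fun x _ => ⟨0, ?_⟩⟩
      rw [pow_zero, pow_zero, su_one_mulVec, one_smul, zero_smul, add_zero]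
    | succ i ih =>
      obtain ⟨ih1, ih2⟩ := ih
      refine ⟨?_, fun x hx => ?_⟩
      · rw [pow_succ, su_mul_mulVec, hgel, Matrix.mulVec_smul, ih1, smul_smul, pow_succ, mul_comm]
      · obtain ⟨c₁, hc₁⟩ := hgx x hx
        obtain ⟨c₂, hc₂⟩ := ih2 x hx
        refine ⟨μ * c₂ + c₁ * l ^ i, ?_⟩
        rw [pow_succ, su_mul_mulVec, hc₁, Matrix.mulVec_add, Matrix.mulVec_smul,
          Matrix.mulVec_smul, hc₂, ih1, pow_succ]
        module
  have hcen : g ^ (p ^ j) ∈ Subgroup.center ↥(Cfsg.SU n F q) := by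
    rw [← QuotientGroup.eq_one_iff, QuotientGroup.mk_pow]
    exact hj
  obtain ⟨ζ, hζ⟩ := center_smul hF (by omega) hcen
  have hζl : ζ = l ^ (p ^ j) := by
    have h1 := (hpow (p ^ j)).1
    rw [hζ] at h1
    have h2 : (ζ - l ^ (p ^ j)) • e = 0 := by rw [sub_smul, h1, sub_self]
    rcases smul_eq_zero.mp h2 with h3 | h3
    · exact sub_eq_zero.mp h3
    · exact absurd h3 h.ne_zero
  have hζμ : ζ = μ ^ (p ^ j) := by
    obtain ⟨c, hc⟩ := (hpow (p ^ j)).2 u₀ hu₀e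
    rw [hζ] at hc
    have h1 := congrArg (fun y => hf σ y u₀) hc
    simp only [hf_add_left, hf_smul_left, hS.hf_eq_zero_symm hu₀e, mul_zero, add_zero] at h1
    exact mul_right_cancel₀ hu₀ h1
  have hlμ : l = μ := by
    have hμ0 : μ ≠ 0 := by
      rintro rfl
      rw [zero_pow (pow_ne_zero j (Fact.out : p.Prime).ne_zero)] at hζμ
      rw [hζμ] at hζl
      exact pow_ne_zero _ hl0 hζl.symm
    have h1 : (l / μ) ^ (p ^ j) = 1 := by
      rw [div_pow, ← hζl, ← hζμ, div_self]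
      rw [hζl]
      exact pow_ne_zero _ hl0
    have h2 := eq_one_of_pow_char p h1
    rw [div_eq_one_iff_eq hμ0] at h2
    exact h2
  -- (g) `l σ(l) = 1`
  have hnorm : l * σ l = 1 := by
    obtain ⟨c, hc⟩ := hgx u₀ hu₀e
    have h4 := su_pres hS g u₀ u₀
    rw [hc, ← hlμ] at h4
    simp only [hf_add_left, hf_add_right, hf_smul_left, hf_smul_right, h.uu, hu₀e,
      hS.hf_eq_zero_symm hu₀e, mul_zero, add_zero] at h4
    have h5 : (l * σ l - 1) * hf σ u₀ u₀ = 0 := by linear_combination h4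
    rcases mul_eq_zero.mp h5 with h6 | h6
    · exact sub_eq_zero.mp h6
    · exact absurd h6 hu₀
  -- (h) the matrix `l⁻¹ g`
  have hσl0 : σ l ≠ 0 := hS.ne_zero hl0
  obtain ⟨w, c, hwW, hv, hM⟩ := exists_sieg_of_matrix hS h (l⁻¹ • g.1.1) (by
      intro x y
      have hinv : l⁻¹ * (σ l)⁻¹ = 1 := by rw [← mul_inv, hnorm, inv_one]
      rw [Matrix.smul_mulVec, Matrix.smul_mulVec, hf_smul_left, hf_smul_right, su_pres hS,
        map_inv₀, ← mul_assoc, hinv, one_mul])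
    (by rw [Matrix.smul_mulVec, hgel, smul_smul, inv_mul_cancel₀ hl0, one_smul])
    (by
      intro x hx
      obtain ⟨c, hc⟩ := hgx x hx
      refine ⟨l⁻¹ * c, ?_⟩
      rw [Matrix.smul_mulVec, hc, ← hlμ, smul_add, smul_smul, smul_smul, inv_mul_cancel₀ hl0,
        one_smul])
  refine ⟨w, c, hwW, hv, ?_⟩
  symm
  rw [QuotientGroup.eq]
  apply mem_center_of_smul (a := l)
  intro x
  have h1 : g.1.1 *ᵥ x = l • ((sS hS e w c).1.1 *ᵥ x) := by
    have h2 : (sS hS e w c).1.1 = sieg σ e w c := by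
      unfold sS
      rw [dif_pos hv, mkSU_mat]
    rw [h2, ← hM, Matrix.smul_mulVec, smul_smul, mul_inv_cancel₀ hl0, one_smul]
  rw [su_mul_mulVec, h1, Matrix.mulVec_smul, su_inv_mulVec_mulVec]

end Cfsg.Agent.Lib.Helper45.PSUAut
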