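/-
helper45: automorphisms of `PSU_n(q)`, step 11: automorphisms respect the description of `Q_e`;
normalisation of an automorphism by an inner one so that it fixes the two points of a hyperbolic
pair.
-/
import Cfsg.Agent.Lib.Helper45.PSUAut.QChar
import Cfsg.Agent.S0780

set_option autoImplicit false

namespace Cfsg.Agent.Lib.Helper45.PSUAut

open Matrix Cfsg.Agent.S0837 Cfsg.Agent.S0781 Cfsg.Agent.S2644 Cfsg.Agent.Lib.Helper37
  Cfsg.Agent.Lib.Helper45.FTPG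

variable {F : Type*} [Field F] [Fintype F] {q n : ℕ} {σ : F →+* F}

omit [Fintype F] in
theorem Coll.of_par (hS : Frob σ q) {e e' z z₁ z' z₁' : Fin n → F} (h : Coll σ e z z')
    (he : Par (K := F) e' e) (hz : Par (K := F) z₁ z) (hz' : Par (K := F) z₁' z') :
    Coll σ e' z₁ z₁' := by
  intro x hx hxe hxz
  rw [hf_eq_zero_of_par_right hS hz']
  apply h x hx
  · rwa [← hf_eq_zero_of_par_right hS he]
  · rwa [← hf_eq_zero_of_par_right hS hz]

omit [Fintype F] in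
theorem InQbar.of_par (hS : Frob σ q) (p : ℕ) {e e' : Fin n → F} {x : Cfsg.PSU n F q}
    (h : InQbar hS p e x) (hpar : Par (K := F) e' e) (he : hf σ e e = 0) : InQbar hS p e' x := by
  obtain ⟨h1, h2, h3⟩ := h
  have he' : hf σ e' e' = 0 := iso_of_par hpar he
  refine ⟨h1, (h2.of_par_left hS hpar he).of_par_right hS hpar.symm he', ?_⟩
  intro z z' hz hz' hze hmv
  have hze' : hf σ z e = 0 := by rwa [← hf_eq_zero_of_par_right hS hpar]
  exact (h3 z z' hz hz' hze' hmv).of_par hS hpar (Par.refl (K := F) z) (Par.refl (K := F) z')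

/-- automorphisms respect the description of `Q_e` -/
theorem inQbar_pmap (hF : Fintype.card F = q ^ 2) (hS : Frob σ q) (hn : 3 ≤ n)
    (p : ℕ) [Fact p.Prime] [CharP F p] (hT : AutPresT hS n) (β : MulAut (Cfsg.PSU n F q))
    {e : Fin n → F} (he : IsoPt σ e) {x : Cfsg.PSU n F q} (hx : InQbar hS p e x) :
    InQbar hS p (pmap hS hT β e) (β x) := by
  obtain ⟨⟨j, hj⟩, h2, h3⟩ := hx
  have hpe := pmap_isoPt hS hT β he
  refine ⟨⟨j, by rw [← map_pow, hj, map_one]⟩, (mv_pmap_iff hF hS hn hT β he he x).mpr h2, ?_⟩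
  intro z₁ z₁' hz₁ hz₁' hz₁e hmv
  obtain ⟨z, hz, hzpar⟩ := pmap_surj hF hS hn hT β hz₁
  obtain ⟨z', hz', hz'par⟩ := pmap_surj hF hS hn hT β hz₁'
  have hpz := pmap_isoPt hS hT β hz
  have hpz' := pmap_isoPt hS hT β hz'
  have hmv' : Mv hS (β x) (pmap hS hT β z) (pmap hS hT β z') :=
    (hmv.of_par_left hS hzpar hz₁.2).of_par_right hS hz'par.symm hpz'.2
  have hmv'' : Mv hS x z z' := (mv_pmap_iff hF hS hn hT β hz hz' x).mp hmv'
  have hze : hf σ z e = 0 := by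
    rw [pmap_perp hF hS hn p hT β hz he, hf_eq_zero_of_par_left hzpar]
    exact hz₁e
  have hcoll := h3 z z' hz hz' hze hmv''
  -- transport the collinearity
  intro x₁ hx₁ hx₁e hx₁z
  obtain ⟨x₀, hx₀, hx₀par⟩ := pmap_surj hF hS hn hT β hx₁
  rw [← hf_eq_zero_of_par_left hx₀par] at hx₁e hx₁z ⊢
  rw [← hf_eq_zero_of_par_right hS hzpar] at hx₁z
  rw [← hf_eq_zero_of_par_right hS hz'par]
  rw [← pmap_perp hF hS hn p hT β hx₀ he] at hx₁e
  rw [← pmap_perp hF hS hn p hT β hx₀ hz] at hx₁z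
  rw [← pmap_perp hF hS hn p hT β hx₀ hz']
  exact hcoll x₀ hx₀ hx₁e hx₁z

/-- the point map of a composition with an inner automorphism -/
theorem pmap_conj_par (hF : Fintype.card F = q ^ 2) (hS : Frob σ q) (hn : 3 ≤ n)
    (hT : AutPresT hS n) (β : MulAut (Cfsg.PSU n F q)) (t : ↥(Cfsg.SU n F q)) {v : Fin n → F}
    (hv : IsoPt σ v) :
    Par (K := F) (pmap hS hT (MulAut.conj (QuotientGroup.mk t : Cfsg.PSU n F q) * β) v)
      (t.1.1 *ᵥ pmap hS hT β v) := by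
  obtain ⟨hp, d, hd, hd0, h1⟩ := pmap_spec hS hT β hv
  obtain ⟨hp', d', hd', hd'0, h2⟩ :=
    pmap_spec hS hT (MulAut.conj (QuotientGroup.mk t : Cfsg.PSU n F q) * β) hv
  rw [MulAut.mul_apply, h1, MulAut.conj_apply, conj_tb hS t hp.2 hd0] at h2
  have hp'' := hp.mulVec hS t
  exact par_of_tb_eq hF hS hn hp''.1 hp'.1 hp''.2 hp'.2 hd hd' hd0 hd'0 h2

/-- **Normalisation**: after composing with an inner automorphism, the points of a hyperbolic pair
are fixed. -/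
theorem exists_normalise (hF : Fintype.card F = q ^ 2) (hS : Frob σ q) (hn : 3 ≤ n)
    (hs : ¬ (n = 3 ∧ q = 2)) (p : ℕ) [Fact p.Prime] [CharP F p]
    (hT : AutPresT hS n) (β : MulAut (Cfsg.PSU n F q)) {e f : Fin n → F} (h : HP σ e f) :
    ∃ t : ↥(Cfsg.SU n F q),
      Par (K := F) (pmap hS hT (MulAut.conj (QuotientGroup.mk t : Cfsg.PSU n F q) * β) e) e ∧
      Par (K := F) (pmap hS hT (MulAut.conj (QuotientGroup.mk t : Cfsg.PSU n F q) * β) f) f := by
  have he : IsoPt σ e := ⟨h.ne_zero, h.uu⟩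
  have hf' : IsoPt σ f := ⟨(h.symm hS.invol).ne_zero, h.vv⟩
  have hpe := pmap_isoPt hS hT β he
  have hpf := pmap_isoPt hS hT β hf'
  have hne : hf σ (pmap hS hT β f) (pmap hS hT β e) ≠ 0 := by
    intro h0
    rw [← pmap_perp hF hS hn p hT β hf' he, h.vu] at h0
    exact one_ne_zero h0
  set a := (hf σ (pmap hS hT β f) (pmap hS hT β e))⁻¹ with ha
  have ha0 : a ≠ 0 := inv_ne_zero hne
  have hHP : HP σ (pmap hS hT β e) (a • pmap hS hT β f) :=
    ⟨hpe.2, iso_smul a hpf.2, by rw [hf_smul_left, ha, inv_mul_cancel₀ hne]⟩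
  have hq : 4 ≤ n ∨ ∃ l : F, l ≠ 0 ∧ l * σ l ≠ 1 := by
    rcases Nat.lt_or_ge n 4 with h4 | h4
    · right
      have hn3 : n = 3 := by omega
      have hq2 : 2 ≤ q := Cfsg.Agent.Lib.Helper13.two_le_of_card_eq_sq hF
      have hq3 : 3 ≤ q := by
        by_contra hlt
        exact hs ⟨hn3, by omega⟩
      exact Cfsg.Agent.S0780.exists_norm_ne_one hF hq3 σ hS.pow
    · exact Or.inl h4
  obtain ⟨t, ht, hte, htf⟩ := hp_transitive σ hS.ne hS.invol hn hq hHP h
  refine ⟨suOfTG hS t ht, ?_, ?_⟩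
  · have h1 := pmap_conj_par hF hS hn hT β (suOfTG hS t ht) he
    rw [suOfTG_mat, hte] at h1
    exact h1
  · have h1 := pmap_conj_par hF hS hn hT β (suOfTG hS t ht) hf'
    rw [suOfTG_mat] at h1
    have h2 : (t : Matrix (Fin n) (Fin n) F) *ᵥ pmap hS hT β f = a⁻¹ • f := by
      calc (t : Matrix (Fin n) (Fin n) F) *ᵥ pmap hS hT β f
          = a⁻¹ • ((t : Matrix (Fin n) (Fin n) F) *ᵥ (a • pmap hS hT β f)) := by
            rw [Matrix.mulVec_smul, smul_smul, inv_mul_cancel₀ ha0, one_smul]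
        _ = a⁻¹ • f := by rw [htf]
    rw [h2] at h1
    exact h1.trans ⟨a⁻¹, inv_ne_zero ha0, rfl⟩

end Cfsg.Agent.Lib.Helper45.PSUAut
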