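/-
helper45: automorphisms of `PSU_n(q)`, step 12: a normalised automorphism acts on the classes of the
Siegel elements with centre `e`; the induced maps `φ` on `W = ⟨e, f⟩^⊥` and `γ` on the parameters.
-/
import Cfsg.Agent.Lib.Helper45.PSUAut.Norm

set_option autoImplicit false

namespace Cfsg.Agent.Lib.Helper45.PSUAut

open Matrix Cfsg.Agent.S0837 Cfsg.Agent.S0781 Cfsg.Agent.S2644 Cfsg.Agent.Lib.Helper37
  Cfsg.Agent.Lib.Helper45.FTPG

variable {F : Type*} [Field F] [Fintype F] {q n : ℕ} {σ : F →+* F}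

/-- the class of a Siegel element -/
noncomputable def qb (hS : Frob σ q) (e w : Fin n → F) (c : F) : Cfsg.PSU n F q :=
  QuotientGroup.mk (sS hS e w c)

omit [Fintype F] in
theorem qb_mul (hS : Frob σ q) {e u₁ u₂ : Fin n → F} {c₁ c₂ : F} (h₁ : SV σ e u₁ c₁)
    (h₂ : SV σ e u₂ c₂) :
    qb hS e u₁ c₁ * qb hS e u₂ c₂ = qb hS e (u₁ + u₂) (c₁ + c₂ - hf σ u₂ u₁) := by
  unfold qb
  rw [← QuotientGroup.mk_mul, sS_mul hS h₁ h₂]

omit [Fintype F] in
theorem qb_zero_eq_tb (hS : Frob σ q) {e : Fin n → F} {c : F} (he : hf σ e e = 0)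
    (hc : c + σ c = 0) : qb hS e 0 c = tb hS e c := by
  unfold qb tb
  rw [sS_zero_eq_tS hS he hc]

theorem qb_inj (hF : Fintype.card F = q ^ 2) (hS : Frob σ q) (hn : 3 ≤ n) (p : ℕ)
    [Fact p.Prime] [CharP F p] {e f w w' : Fin n → F} {c c' : F} (h : HP σ e f)
    (hw : InW σ e f w) (hw' : InW σ e f w') (hv : SV σ e w c) (hv' : SV σ e w' c')
    (heq : qb hS e w c = qb hS e w' c') : w = w' ∧ c = c' :=
  sS_inj hS h hw hw' hv hv'
    (eq_of_mk_eq_of_pow hF (by omega) p (sS_pow_char hS p e w c) (sS_pow_char hS p e w' c') heq)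

/-- a normalised automorphism: the points of the hyperbolic pair `e, f` are fixed -/
structure NAut (hS : Frob σ q) (hT : AutPresT hS n) (β : MulAut (Cfsg.PSU n F q))
    (e f : Fin n → F) : Prop where
  pair : HP σ e f
  fixe : Par (K := F) (pmap hS hT β e) e
  fixf : Par (K := F) (pmap hS hT β f) f

section

variable (hF : Fintype.card F = q ^ 2) {hS : Frob σ q} (hn : 3 ≤ n) (p : ℕ) [Fact p.Prime]
  [CharP F p] {hT : AutPresT hS n} {β : MulAut (Cfsg.PSU n F q)} {e f : Fin n → F}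

omit [Fintype F] in
theorem NAut.e_pt (N : NAut hS hT β e f) : IsoPt σ e := ⟨N.pair.ne_zero, N.pair.uu⟩

omit [Fintype F] in
theorem NAut.f_pt (N : NAut hS hT β e f) : IsoPt σ f :=
  ⟨(N.pair.symm hS.invol).ne_zero, N.pair.vv⟩

include hF hn in
/-- `β` preserves the transvection group of `e` -/
theorem NAut.inX_e (N : NAut hS hT β e f) (x : Cfsg.PSU n F q) :
    InX hS e (β x) ↔ InX hS e x := by
  rw [← inX_pmap_iff hF hS hn hT β N.e_pt x]
  have hpe := pmap_isoPt hS hT β N.e_pt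
  exact ⟨fun h => inX_of_par hS N.fixe.symm hpe.2 h, fun h => inX_of_par hS N.fixe N.e_pt.2 h⟩

include hF hn in
/-- `β` preserves the transvection group of `f` -/
theorem NAut.inX_f (N : NAut hS hT β e f) (x : Cfsg.PSU n F q) :
    InX hS f (β x) ↔ InX hS f x := by
  rw [← inX_pmap_iff hF hS hn hT β N.f_pt x]
  have hpf := pmap_isoPt hS hT β N.f_pt
  exact ⟨fun h => inX_of_par hS N.fixf.symm hpf.2 h, fun h => inX_of_par hS N.fixf N.f_pt.2 h⟩

include hF hn p in
/-- the image of a Siegel class is a Siegel class -/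
theorem NAut.exists_img (N : NAut hS hT β e f) {w : Fin n → F} {c : F} (hv : SV σ e w c) :
    ∃ (w' : Fin n → F) (c' : F), InW σ e f w' ∧ SV σ e w' c' ∧
      β (qb hS e w c) = qb hS e w' c' := by
  have h1 := inQbar_sS hF hS hn p hv
  have h2 := (inQbar_pmap hF hS hn p hT β N.e_pt h1).of_par hS p N.fixe.symm
    (pmap_isoPt hS hT β N.e_pt).2
  obtain ⟨g, hg⟩ := QuotientGroup.mk_surjective (β (QuotientGroup.mk (sS hS e w c)))
  rw [← hg] at h2
  obtain ⟨w', c', hw', hv', h3⟩ := exists_sS_of_inQbar hF hS hn p N.pair h2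
  refine ⟨w', c', hw', hv', ?_⟩
  unfold qb
  rw [← hg, h3]

/-- the `W`-part of the image of the class with parameters `(w, c)` -/
noncomputable def phi2 (hS : Frob σ q) (β : MulAut (Cfsg.PSU n F q)) (e f : Fin n → F)
    (w : Fin n → F) (c : F) : Fin n → F := by
  classical
  exact if h : ∃ (w' : Fin n → F) (c' : F), InW σ e f w' ∧ SV σ e w' c' ∧
      β (qb hS e w c) = qb hS e w' c' then Classical.choose h else 0

/-- the parameter of the image of the class with parameters `(w, c)` -/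
noncomputable def gam (hS : Frob σ q) (β : MulAut (Cfsg.PSU n F q)) (e f : Fin n → F)
    (w : Fin n → F) (c : F) : F := by
  classical
  exact if h : ∃ (w' : Fin n → F) (c' : F), InW σ e f w' ∧ SV σ e w' c' ∧
      β (qb hS e w c) = qb hS e w' c' then Classical.choose (Classical.choose_spec h) else 0

include hF hn p in
theorem NAut.img_spec (N : NAut hS hT β e f) {w : Fin n → F} {c : F} (hv : SV σ e w c) :
    InW σ e f (phi2 hS β e f w c) ∧ SV σ e (phi2 hS β e f w c) (gam hS β e f w c) ∧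
      β (qb hS e w c) = qb hS e (phi2 hS β e f w c) (gam hS β e f w c) := by
  classical
  have h := N.exists_img hF hn p hv
  have h1 : phi2 hS β e f w c = Classical.choose h := by
    unfold phi2
    rw [dif_pos h]
  have h2 : gam hS β e f w c = Classical.choose (Classical.choose_spec h) := by
    unfold gam
    rw [dif_pos h]
  rw [h1, h2]
  exact Classical.choose_spec (Classical.choose_spec h)

include hF hn p in
/-- uniqueness of the image parameters -/
theorem NAut.img_unique (N : NAut hS hT β e f) {w w' : Fin n → F} {c c' : F} (hv : SV σ e w c)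
    (hw' : InW σ e f w') (hv' : SV σ e w' c') (h : β (qb hS e w c) = qb hS e w' c') :
    phi2 hS β e f w c = w' ∧ gam hS β e f w c = c' := by
  obtain ⟨h1, h2, h3⟩ := N.img_spec hF hn p hv
  rw [h3] at h
  exact qb_inj hF hS hn p N.pair h1 hw' h2 hv' h

include hF hn p in
/-- the action on the transvection group of `e` -/
theorem NAut.img_zero (N : NAut hS hT β e f) {m : F} (hm : m + σ m = 0) :
    phi2 hS β e f 0 m = 0 ∧ gam hS β e f 0 m + σ (gam hS β e f 0 m) = 0 ∧
      β (tb hS e m) = tb hS e (gam hS β e f 0 m) := by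
  have hv : SV σ e 0 m := SV.of_tr0 N.pair.uu hm
  obtain ⟨m', hm', h1⟩ := (N.inX_e hF hn (tb hS e m)).mpr ⟨m, hm, rfl⟩
  have hv' : SV σ e 0 m' := SV.of_tr0 N.pair.uu hm'
  have h2 : β (qb hS e 0 m) = qb hS e 0 m' := by
    rw [qb_zero_eq_tb hS N.pair.uu hm, qb_zero_eq_tb hS N.pair.uu hm', h1]
  obtain ⟨h3, h4⟩ := N.img_unique hF hn p hv (InW.zero e f) hv' h2
  refine ⟨h3, by rw [h4]; exact hm', by rw [h4]; exact h1⟩

include hF hn p in
/-- the multiplicativity of `β` on Siegel classes -/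
theorem NAut.img_mul (N : NAut hS hT β e f) {w₁ w₂ : Fin n → F} {c₁ c₂ : F}
    (hv₁ : SV σ e w₁ c₁) (hv₂ : SV σ e w₂ c₂) :
    phi2 hS β e f (w₁ + w₂) (c₁ + c₂ - hf σ w₂ w₁) =
        phi2 hS β e f w₁ c₁ + phi2 hS β e f w₂ c₂ ∧
      gam hS β e f (w₁ + w₂) (c₁ + c₂ - hf σ w₂ w₁) =
        gam hS β e f w₁ c₁ + gam hS β e f w₂ c₂ -
          hf σ (phi2 hS β e f w₂ c₂) (phi2 hS β e f w₁ c₁) := by
  obtain ⟨a1, a2, a3⟩ := N.img_spec hF hn p hv₁
  obtain ⟨b1, b2, b3⟩ := N.img_spec hF hn p hv₂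
  apply N.img_unique hF hn p (hv₁.mul hS hv₂) (a1.add b1) (a2.mul hS b2)
  rw [← qb_mul hS hv₁ hv₂, map_mul, a3, b3, qb_mul hS a2 b2]

include hF hn p in
/-- the `W`-part of the image does not depend on the parameter -/
theorem NAut.phi2_indep (N : NAut hS hT β e f) {w : Fin n → F} {c c₂ : F}
    (hv : SV σ e w c) (hv₂ : SV σ e w c₂) :
    phi2 hS β e f w c₂ = phi2 hS β e f w c ∧
      gam hS β e f w c₂ = gam hS β e f w c + gam hS β e f 0 (c₂ - c) := by
  have hm : (c₂ - c) + σ (c₂ - c) = 0 := by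
    rw [map_sub]; linear_combination hv₂.tr - hv.tr
  have hv0 : SV σ e 0 (c₂ - c) := SV.of_tr0 N.pair.uu hm
  obtain ⟨h1, h2⟩ := N.img_mul hF hn p hv hv0
  obtain ⟨h3, -, -⟩ := N.img_zero hF hn p hm
  rw [h3] at h1 h2
  have e1 : w + 0 = w := add_zero w
  have e2 : c + (c₂ - c) - hf σ 0 w = c₂ := by rw [hf_zero_left]; ring
  rw [e1, e2] at h1 h2
  rw [hf_zero_left, sub_zero] at h2
  exact ⟨by rw [h1, add_zero], h2⟩

end

end Cfsg.Agent.Lib.Helper45.PSUAut
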