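/-
helper45: automorphisms of `PSU_n(q)`, step 13: the additive map `φ` on `W` induced by a normalised
automorphism, the additive map `a` on the trace-zero elements, and their first properties.
-/
import Cfsg.Agent.Lib.Helper45.PSUAut.Phi

set_option autoImplicit false

namespace Cfsg.Agent.Lib.Helper45.PSUAut

open Matrix Cfsg.Agent.S0837 Cfsg.Agent.S0781 Cfsg.Agent.S2644 Cfsg.Agent.Lib.Helper37
  Cfsg.Agent.Lib.Helper45.FTPG

variable {F : Type*} [Field F] [Fintype F] {q n : ℕ} {σ : F →+* F}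

/-- a valid parameter for `w` -/
noncomputable def cw (σ : F →+* F) (e w : Fin n → F) : F := by
  classical
  exact if h : ∃ c : F, SV σ e w c then Classical.choose h else 0

theorem cw_spec (hS : Frob σ q) {e w : Fin n → F} (he : hf σ e e = 0) (hw : hf σ w e = 0) :
    SV σ e w (cw σ e w) := by
  classical
  have h := exists_SV hS he hw
  unfold cw
  rw [dif_pos h]
  exact Classical.choose_spec h

/-- the map induced on `W` -/
noncomputable def phi (hS : Frob σ q) (β : MulAut (Cfsg.PSU n F q)) (e f : Fin n → F)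
    (w : Fin n → F) : Fin n → F := phi2 hS β e f w (cw σ e w)

/-- the map induced on the trace-zero elements -/
noncomputable def amap (hS : Frob σ q) (β : MulAut (Cfsg.PSU n F q)) (e f : Fin n → F)
    (m : F) : F := gam hS β e f 0 m

section

variable (hF : Fintype.card F = q ^ 2) {hS : Frob σ q} (hn : 3 ≤ n) (p : ℕ) [Fact p.Prime]
  [CharP F p] {hT : AutPresT hS n} {β : MulAut (Cfsg.PSU n F q)} {e f : Fin n → F}

include hF hn p in
theorem NAut.phi2_eq (N : NAut hS hT β e f) {w : Fin n → F} {c : F} (hv : SV σ e w c) :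
    phi2 hS β e f w c = phi hS β e f w :=
  (N.phi2_indep hF hn p (cw_spec hS N.pair.uu hv.perp) hv).1

include hF hn p in
/-- the image of a Siegel class, in terms of `φ` -/
theorem NAut.beta_qb (N : NAut hS hT β e f) {w : Fin n → F} {c : F} (hv : SV σ e w c) :
    InW σ e f (phi hS β e f w) ∧ SV σ e (phi hS β e f w) (gam hS β e f w c) ∧
      β (qb hS e w c) = qb hS e (phi hS β e f w) (gam hS β e f w c) := by
  have h := N.img_spec hF hn p hv
  rw [N.phi2_eq hF hn p hv] at h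
  exact h

include hF hn p in
theorem NAut.phi_inW (N : NAut hS hT β e f) {w : Fin n → F} (hw : hf σ w e = 0) :
    InW σ e f (phi hS β e f w) :=
  (N.beta_qb hF hn p (cw_spec hS N.pair.uu hw)).1

include hF hn p in
theorem NAut.phi_add (N : NAut hS hT β e f) {w₁ w₂ : Fin n → F} (h₁ : hf σ w₁ e = 0)
    (h₂ : hf σ w₂ e = 0) :
    phi hS β e f (w₁ + w₂) = phi hS β e f w₁ + phi hS β e f w₂ := by
  have hv₁ := cw_spec hS N.pair.uu h₁
  have hv₂ := cw_spec hS N.pair.uu h₂
  have h := (N.img_mul hF hn p hv₁ hv₂).1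
  rw [N.phi2_eq hF hn p (hv₁.mul hS hv₂)] at h
  exact h

include hF hn p in
theorem NAut.gam_mul (N : NAut hS hT β e f) {w₁ w₂ : Fin n → F} {c₁ c₂ : F}
    (hv₁ : SV σ e w₁ c₁) (hv₂ : SV σ e w₂ c₂) :
    gam hS β e f (w₁ + w₂) (c₁ + c₂ - hf σ w₂ w₁) =
      gam hS β e f w₁ c₁ + gam hS β e f w₂ c₂ - hf σ (phi hS β e f w₂) (phi hS β e f w₁) := by
  have h := (N.img_mul hF hn p hv₁ hv₂).2
  rw [N.phi2_eq hF hn p hv₁, N.phi2_eq hF hn p hv₂] at h
  exact h

include hF hn p in
theorem NAut.phi_zero (N : NAut hS hT β e f) : phi hS β e f 0 = 0 := by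
  have h := (N.img_zero hF hn p (tr0_zero (σ := σ))).1
  rw [N.phi2_eq hF hn p (SV.zero N.pair.uu)] at h
  exact h

include hF hn p in
theorem NAut.amap_spec (N : NAut hS hT β e f) {m : F} (hm : m + σ m = 0) :
    amap hS β e f m + σ (amap hS β e f m) = 0 ∧ β (tb hS e m) = tb hS e (amap hS β e f m) :=
  (N.img_zero hF hn p hm).2

include hF hn p in
theorem NAut.amap_add (N : NAut hS hT β e f) {m m' : F} (hm : m + σ m = 0)
    (hm' : m' + σ m' = 0) :
    amap hS β e f (m + m') = amap hS β e f m + amap hS β e f m' := by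
  have h := N.gam_mul hF hn p (SV.of_tr0 N.pair.uu hm) (SV.of_tr0 N.pair.uu hm')
  rw [N.phi_zero hF hn p] at h
  simp only [hf_zero_left, add_zero, sub_zero] at h
  unfold amap
  exact h

include hF hn p in
theorem NAut.amap_eq_zero (N : NAut hS hT β e f) {m : F} (hm : m + σ m = 0)
    (h0 : amap hS β e f m = 0) : m = 0 := by
  by_contra hne
  have h1 := (N.amap_spec hF hn p hm).2
  rw [h0, tb_zero hS N.pair.uu] at h1
  have h2 : tb hS e m = 1 := β.injective (by rw [h1, map_one])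
  exact tb_ne_one hF hS (by omega) N.pair.ne_zero N.pair.uu hne hm h2

include hF hn p in
/-- dependence of `γ` on the parameter -/
theorem NAut.gam_add (N : NAut hS hT β e f) {w : Fin n → F} {c c₂ : F}
    (hv : SV σ e w c) (hv₂ : SV σ e w c₂) :
    gam hS β e f w c₂ = gam hS β e f w c + amap hS β e f (c₂ - c) :=
  (N.phi2_indep hF hn p hv hv₂).2

include hF hn p in
/-- `φ` is injective -/
theorem NAut.phi_eq_zero (N : NAut hS hT β e f) {w : Fin n → F} (hw : InW σ e f w)
    (h0 : phi hS β e f w = 0) : w = 0 := by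
  have hv := cw_spec hS N.pair.uu hw.1
  obtain ⟨-, h2, h3⟩ := N.beta_qb hF hn p hv
  rw [h0] at h2 h3
  have hm : gam hS β e f w (cw σ e w) + σ (gam hS β e f w (cw σ e w)) = 0 := by
    have := h2.tr
    rwa [hf_zero_left, add_zero] at this
  rw [qb_zero_eq_tb hS N.pair.uu hm] at h3
  obtain ⟨m, hm', h4⟩ := (N.inX_e hF hn (qb hS e w (cw σ e w))).mp ⟨_, hm, h3⟩
  rw [← qb_zero_eq_tb hS N.pair.uu hm'] at h4
  exact (qb_inj hF hS hn p N.pair hw (InW.zero e f) hv (SV.of_tr0 N.pair.uu hm') h4).1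

include hF hn p in
/-- the commutator relation -/
theorem NAut.amap_comm (N : NAut hS hT β e f) {w₁ w₂ : Fin n → F} (h₁ : hf σ w₁ e = 0)
    (h₂ : hf σ w₂ e = 0) :
    amap hS β e f (hf σ w₁ w₂ - hf σ w₂ w₁) =
      hf σ (phi hS β e f w₁) (phi hS β e f w₂) - hf σ (phi hS β e f w₂) (phi hS β e f w₁) := by
  have hv₁ := cw_spec hS N.pair.uu h₁
  have hv₂ := cw_spec hS N.pair.uu h₂
  have e1 := N.gam_mul hF hn p hv₁ hv₂
  have e2 := N.gam_mul hF hn p hv₂ hv₁
  have hv12 := hv₁.mul hS hv₂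
  have hv21 := hv₂.mul hS hv₁
  rw [add_comm w₂ w₁] at e2 hv21
  have e3 := N.gam_add hF hn p hv21 hv12
  have e4 : cw σ e w₁ + cw σ e w₂ - hf σ w₂ w₁ - (cw σ e w₂ + cw σ e w₁ - hf σ w₁ w₂) =
      hf σ w₁ w₂ - hf σ w₂ w₁ := by ring
  rw [e4] at e3
  linear_combination e1 - e2 - e3

end

end Cfsg.Agent.Lib.Helper45.PSUAut
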