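/-
helper45: automorphisms of `PSU_n(q)`, step 14: diagonal elements `e ↦ ℓ e`, `f ↦ σ(ℓ)⁻¹ f`,
`w ↦ μ w` on `⟨e, f⟩^⊥` attached to a hyperbolic pair; the torus elements of `SU` built from them.
-/
import Cfsg.Agent.Lib.Helper45.PSUAut.Phi2

set_option autoImplicit false

namespace Cfsg.Agent.Lib.Helper45.PSUAut

open Matrix Cfsg.Agent.S0837 Cfsg.Agent.S0781 Cfsg.Agent.S2644 Cfsg.Agent.Lib.Helper37
  Cfsg.Agent.Lib.Helper45.FTPG

variable {F : Type*} [Field F] {q n : ℕ} {σ : F →+* F}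

/-- the matrix of `x ↦ m x + (l - m) h(x,f) e + (σ(l)⁻¹ - m) h(x,e) f` -/
def dh (σ : F →+* F) (e f : Fin n → F) (l m : F) : Matrix (Fin n) (Fin n) F :=
  m • (1 : Matrix (Fin n) (Fin n) F) + vecMulVec ((l - m) • e) (σ ∘ f) +
    vecMulVec (((σ l)⁻¹ - m) • f) (σ ∘ e)

theorem dh_mulVec (e f : Fin n → F) (l m : F) (x : Fin n → F) :
    dh σ e f l m *ᵥ x =
      m • x + (hf σ x f * (l - m)) • e + (hf σ x e * ((σ l)⁻¹ - m)) • f := by
  unfold dh
  rw [Matrix.add_mulVec, Matrix.add_mulVec, Matrix.smul_mulVec, Matrix.one_mulVec,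
    Matrix.vecMulVec_mulVec, Matrix.vecMulVec_mulVec]
  have h1 : ∀ w : Fin n → F, (σ ∘ w) ⬝ᵥ x = hf σ x w := by
    intro w
    unfold hf dotProduct
    exact Finset.sum_congr rfl fun i _ => mul_comm _ _
  rw [h1, h1]
  ext i
  simp only [Pi.add_apply, Pi.smul_apply, MulOpposite.smul_eq_mul_unop,
    MulOpposite.unop_op, smul_eq_mul]
  ring

theorem dh_e (hS : Frob σ q) {e f : Fin n → F} (h : HP σ e f) (l m : F) :
    dh σ e f l m *ᵥ e = l • e := by
  rw [dh_mulVec, h.uu, h.uv hS.invol, zero_mul, zero_smul, add_zero, one_mul, ← add_smul]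
  congr 1
  ring

theorem dh_f {e f : Fin n → F} (h : HP σ e f) (l m : F) :
    dh σ e f l m *ᵥ f = (σ l)⁻¹ • f := by
  rw [dh_mulVec, h.vv, h.vu, zero_mul, zero_smul, add_zero, one_mul, ← add_smul]
  congr 1
  ring

theorem dh_w {e f w : Fin n → F} (hw : InW σ e f w) (l m : F) :
    dh σ e f l m *ᵥ w = m • w := by
  rw [dh_mulVec, hw.1, hw.2, zero_mul, zero_mul, zero_smul, zero_smul, add_zero, add_zero]

theorem dh_pres (hS : Frob σ q) {e f : Fin n → F} (h : HP σ e f) {l m : F} (hl : l ≠ 0)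
    (hm : m * σ m = 1) (x y : Fin n → F) :
    hf σ (dh σ e f l m *ᵥ x) (dh σ e f l m *ᵥ y) = hf σ x y := by
  have hl1 : l * l⁻¹ = 1 := mul_inv_cancel₀ hl
  have hl2 : σ l * (σ l)⁻¹ = 1 := mul_inv_cancel₀ (hS.ne_zero hl)
  have hey : hf σ e y = σ (hf σ y e) := hf_symm σ hS.invol e y
  have hfy : hf σ f y = σ (hf σ y f) := hf_symm σ hS.invol f y
  simp only [dh_mulVec, hf_add_left, hf_add_right, hf_smul_left, hf_smul_right, h.uu, h.vv, h.vu,
    h.uv hS.invol, map_mul, map_sub, map_inv₀, hS.invol, hey, hfy]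
  linear_combination (hf σ x y - hf σ x f * σ (hf σ y e) - hf σ x e * σ (hf σ y f)) * hm +
    (hf σ x f * σ (hf σ y e)) * hl1 + (hf σ x e * σ (hf σ y f)) * hl2

theorem dh_det (hS : Frob σ q) {e f : Fin n → F} (h : HP σ e f) (l : F) {m : F} (hm : m ≠ 0) :
    (dh σ e f l m).det = m ^ n * (l / m) * ((σ l)⁻¹ / m) := by
  set A : Matrix (Fin n) (Fin 2) F :=
    Matrix.of fun i j => ![((l - m) / m) * e i, (((σ l)⁻¹ - m) / m) * f i] j with hA
  set B : Matrix (Fin 2) (Fin n) F := Matrix.of ![σ ∘ f, σ ∘ e] with hB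
  have hAB : dh σ e f l m = m • (1 + A * B) := by
    unfold dh
    ext i k
    simp only [hA, hB, Matrix.add_apply, Matrix.smul_apply, Matrix.mul_apply, Fin.sum_univ_two,
      vecMulVec_apply, Matrix.of_apply, Pi.smul_apply, smul_eq_mul, Function.comp_apply,
      Matrix.cons_val_zero, Matrix.cons_val_one, Matrix.one_apply]
    field_simp
    ring
  have hdot : ∀ a b : Fin n → F, ∑ k, σ (a k) * b k = hf σ b a := by
    intro a b
    unfold hf
    exact Finset.sum_congr rfl fun i _ => mul_comm _ _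
  have hB0 : ∀ k, B 0 k = σ (f k) := fun k => rfl
  have hB1 : ∀ k, B 1 k = σ (e k) := fun k => rfl
  have hA0 : ∀ k, A k 0 = ((l - m) / m) * e k := fun k => rfl
  have hA1 : ∀ k, A k 1 = (((σ l)⁻¹ - m) / m) * f k := fun k => rfl
  have hsm : ∀ (c : F) (a b : Fin n → F), ∑ k, σ (a k) * (c * b k) = c * hf σ b a := by
    intro c a b
    rw [← hdot, Finset.mul_sum]
    exact Finset.sum_congr rfl fun i _ => by ring
  have h00 : (B * A) 0 0 = (l - m) / m := by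
    simp only [Matrix.mul_apply, hB0, hA0]
    rw [hsm, h.uv hS.invol, mul_one]
  have h01 : (B * A) 0 1 = 0 := by
    simp only [Matrix.mul_apply, hB0, hA1]
    rw [hsm, h.vv, mul_zero]
  have h10 : (B * A) 1 0 = 0 := by
    simp only [Matrix.mul_apply, hB1, hA0]
    rw [hsm, h.uu, mul_zero]
  have h11 : (B * A) 1 1 = ((σ l)⁻¹ - m) / m := by
    simp only [Matrix.mul_apply, hB1, hA1]
    rw [hsm, h.vu, mul_one]
  rw [hAB, Matrix.det_smul, Fintype.card_fin, Matrix.det_one_add_mul_comm, Matrix.det_fin_two]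
  simp only [Matrix.add_apply, Matrix.one_apply_eq, h00, h01, h10, h11]
  simp only [Matrix.one_apply_ne (show (0 : Fin 2) ≠ 1 by decide),
    Matrix.one_apply_ne (show (1 : Fin 2) ≠ 0 by decide)]
  field_simp
  ring

/-- the torus elements in dimension three -/
theorem exists_torA (hS : Frob σ q) (hn3 : n = 3) {e f : Fin n → F} (h : HP σ e f) {l : F}
    (hl : l ≠ 0) :
    ∃ g : ↥(Cfsg.SU n F q), g.1.1 *ᵥ e = l • e ∧ g.1.1 *ᵥ f = (σ l)⁻¹ • f ∧
      ∀ w, InW σ e f w → g.1.1 *ᵥ w = (σ l / l) • w := by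
  have hsl : σ l ≠ 0 := hS.ne_zero hl
  have hm0 : σ l / l ≠ 0 := div_ne_zero hsl hl
  have hm : (σ l / l) * σ (σ l / l) = 1 := by
    rw [map_div₀, hS.invol]
    field_simp
  have hdet : (dh σ e f l (σ l / l)).det = 1 := by
    rw [dh_det hS h l hm0, hn3]
    field_simp
  refine ⟨mkSU hS (dh σ e f l (σ l / l)) hdet (dh_pres hS h hl hm), ?_, ?_, ?_⟩
  · rw [mkSU_mat, dh_e hS h]
  · rw [mkSU_mat, dh_f h]
  · intro w hw
    rw [mkSU_mat, dh_w hw]

/-- the torus elements attached to two perpendicular hyperbolic pairs -/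
theorem exists_torB (hS : Frob σ q) {e f w₁ w₂ : Fin n → F} (h : HP σ e f) (h' : HP σ w₁ w₂)
    (hw₁ : InW σ e f w₁) (hw₂ : InW σ e f w₂) {l : F} (hl : l ≠ 0) :
    ∃ g : ↥(Cfsg.SU n F q), g.1.1 *ᵥ e = l • e ∧ g.1.1 *ᵥ f = (σ l)⁻¹ • f ∧
      g.1.1 *ᵥ w₁ = σ l • w₁ := by
  have hsl : σ l ≠ 0 := hS.ne_zero hl
  have h11 : (1 : F) * σ 1 = 1 := by rw [map_one, mul_one]
  have hdet : (dh σ e f l 1 * dh σ w₁ w₂ (σ l) 1).det = 1 := by
    rw [Matrix.det_mul, dh_det hS h l one_ne_zero, dh_det hS h' (σ l) one_ne_zero, hS.invol]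
    simp only [one_pow, div_one, one_mul]
    field_simp
  have hpres : ∀ x y, hf σ ((dh σ e f l 1 * dh σ w₁ w₂ (σ l) 1) *ᵥ x)
      ((dh σ e f l 1 * dh σ w₁ w₂ (σ l) 1) *ᵥ y) = hf σ x y := by
    intro x y
    rw [← Matrix.mulVec_mulVec, ← Matrix.mulVec_mulVec, dh_pres hS h hl h11,
      dh_pres hS h' hsl h11]
  have he' : InW σ w₁ w₂ e := ⟨hw₁.e' hS, hw₂.e' hS⟩
  have hf' : InW σ w₁ w₂ f := ⟨hw₁.f' hS, hw₂.f' hS⟩
  refine ⟨mkSU hS _ hdet hpres, ?_, ?_, ?_⟩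
  · rw [mkSU_mat, ← Matrix.mulVec_mulVec, dh_w he', one_smul, dh_e hS h]
  · rw [mkSU_mat, ← Matrix.mulVec_mulVec, dh_w hf', one_smul, dh_f h]
  · rw [mkSU_mat, ← Matrix.mulVec_mulVec, dh_e hS h', Matrix.mulVec_smul, dh_w hw₁, one_smul]

end Cfsg.Agent.Lib.Helper45.PSUAut
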