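/-
helper45: automorphisms of `PSU_n(q)`, step 15: the equivariance of the maps `φ`, `γ` under the
stabiliser of the two points `e`, `f`.
-/
import Cfsg.Agent.Lib.Helper45.PSUAut.Torus

set_option autoImplicit false

namespace Cfsg.Agent.Lib.Helper45.PSUAut

open Matrix Cfsg.Agent.S0837 Cfsg.Agent.S0781 Cfsg.Agent.S2644 Cfsg.Agent.Lib.Helper37
  Cfsg.Agent.Lib.Helper45.FTPG

variable {F : Type*} [Field F] [Fintype F] {q n : ℕ} {σ : F →+* F}

omit [Fintype F] in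
/-- conjugating a Siegel class by an element fixing the point `e` -/
theorem conj_qb (hS : Frob σ q) {e w : Fin n → F} {c l : F} (g : ↥(Cfsg.SU n F q))
    (hv : SV σ e w c) (hl : l ≠ 0) (hge : g.1.1 *ᵥ e = l • e) :
    SV σ e (σ l • g.1.1 *ᵥ w) (l * σ l * c) ∧
      (QuotientGroup.mk g : Cfsg.PSU n F q) * qb hS e w c * (QuotientGroup.mk g)⁻¹ =
        qb hS e (σ l • g.1.1 *ᵥ w) (l * σ l * c) := by
  have h1 := hv.conj hS g
  rw [hge] at h1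
  obtain ⟨h2, h3⟩ := sS_smul_center hS h1 hl
  refine ⟨h2, ?_⟩
  unfold qb
  rw [← QuotientGroup.mk_inv, ← QuotientGroup.mk_mul, ← QuotientGroup.mk_mul, conj_sS hS g hv,
    hge, h3]

omit [Fintype F] in
/-- an element fixing the points `e` and `f` preserves `W` -/
theorem inW_mulVec (hS : Frob σ q) {e f w : Fin n → F} {l m : F} (g : ↥(Cfsg.SU n F q))
    (hl : l ≠ 0) (hm : m ≠ 0) (hge : g.1.1 *ᵥ e = l • e) (hgf : g.1.1 *ᵥ f = m • f)
    (hw : InW σ e f w) : InW σ e f (g.1.1 *ᵥ w) := by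
  constructor
  · have h1 : hf σ (g.1.1 *ᵥ w) (g.1.1 *ᵥ e) = 0 := by rw [su_pres hS, hw.1]
    rw [hge, hf_smul_right] at h1
    exact (mul_eq_zero.mp h1).resolve_left (hS.ne_zero hl)
  · have h1 : hf σ (g.1.1 *ᵥ w) (g.1.1 *ᵥ f) = 0 := by rw [su_pres hS, hw.2]
    rw [hgf, hf_smul_right] at h1
    exact (mul_eq_zero.mp h1).resolve_left (hS.ne_zero hm)

section

variable (hF : Fintype.card F = q ^ 2) {hS : Frob σ q} (hn : 3 ≤ n) (p : ℕ) [Fact p.Prime]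
  [CharP F p] {hT : AutPresT hS n} {β : MulAut (Cfsg.PSU n F q)} {e f : Fin n → F}

include hF hn in
/-- if `g` fixes the isotropic point `z` then a lift of the image of its class fixes the image
point -/
theorem stab_pmap {g g' : ↥(Cfsg.SU n F q)}
    (hg' : β (QuotientGroup.mk g) = QuotientGroup.mk g') {z z' : Fin n → F} (hz : IsoPt σ z)
    (hz' : Par (K := F) (pmap hS hT β z) z') {r : F} (hr : r ≠ 0) (hgz : g.1.1 *ᵥ z = r • z) :
    ∃ r' : F, r' ≠ 0 ∧ g'.1.1 *ᵥ z' = r' • z' := by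
  have hpz := pmap_isoPt hS hT β hz
  have hz'pt : IsoPt σ z' := IsoPt.of_par hz'.symm hpz
  have h1 : Mv hS (QuotientGroup.mk g) z z :=
    (mv_mk hS g hz.2).of_par_right hS ⟨r, hr, hgz⟩ hz.2
  have h2 := (mv_pmap_iff hF hS hn hT β hz hz (QuotientGroup.mk g)).mpr h1
  rw [hg'] at h2
  have h3 : Mv hS (QuotientGroup.mk g') z' z' :=
    (h2.of_par_right hS hz' hz'pt.2).of_par_left hS hz'.symm hpz.2
  obtain ⟨c, hc, h4⟩ := par_of_mv_mk hF hS hn hz'pt hz'pt h3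
  refine ⟨c⁻¹, inv_ne_zero hc, ?_⟩
  calc g'.1.1 *ᵥ z' = c⁻¹ • (c • g'.1.1 *ᵥ z') := by
        rw [smul_smul, inv_mul_cancel₀ hc, one_smul]
    _ = c⁻¹ • z' := by rw [← h4]

include hF hn p in
/-- equivariance of `φ` and `γ` under an element fixing the points `e` and `f` -/
theorem NAut.torus (N : NAut hS hT β e f) {g g' : ↥(Cfsg.SU n F q)}
    (hg' : β (QuotientGroup.mk g) = QuotientGroup.mk g') {l m : F} (hl : l ≠ 0) (hm : m ≠ 0)
    (hge : g.1.1 *ᵥ e = l • e) (hgf : g.1.1 *ᵥ f = m • f) :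
    ∃ l' m' : F, l' ≠ 0 ∧ m' ≠ 0 ∧ g'.1.1 *ᵥ e = l' • e ∧ g'.1.1 *ᵥ f = m' • f ∧
      ∀ (w : Fin n → F) (c : F), SV σ e w c →
        phi hS β e f (σ l • g.1.1 *ᵥ w) = σ l' • g'.1.1 *ᵥ (phi hS β e f w) ∧
        gam hS β e f (σ l • g.1.1 *ᵥ w) (l * σ l * c) = l' * σ l' * gam hS β e f w c := by
  obtain ⟨l', hl', hge'⟩ := stab_pmap hF hn hg' N.e_pt N.fixe hl hge
  obtain ⟨m', hm', hgf'⟩ := stab_pmap hF hn hg' N.f_pt N.fixf hm hgf
  refine ⟨l', m', hl', hm', hge', hgf', ?_⟩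
  intro w c hv
  obtain ⟨hv1, hc1⟩ := conj_qb hS g hv hl hge
  obtain ⟨a1, a2, a3⟩ := N.beta_qb hF hn p hv
  obtain ⟨b1, b2, b3⟩ := N.beta_qb hF hn p hv1
  obtain ⟨hv2, hc2⟩ := conj_qb hS g' a2 hl' hge'
  have h5 : qb hS e (phi hS β e f (σ l • g.1.1 *ᵥ w))
      (gam hS β e f (σ l • g.1.1 *ᵥ w) (l * σ l * c)) =
      qb hS e (σ l' • g'.1.1 *ᵥ (phi hS β e f w)) (l' * σ l' * gam hS β e f w c) := by
    rw [← b3, ← hc1, map_mul, map_mul, map_inv, hg', a3, hc2]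
  have hW : InW σ e f (σ l' • g'.1.1 *ᵥ (phi hS β e f w)) :=
    (inW_mulVec hS g' hl' hm' hge' hgf' a1).smul _
  exact qb_inj hF hS hn p N.pair b1 hW b2 hv2 h5

end

end Cfsg.Agent.Lib.Helper45.PSUAut
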