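/-
helper45: automorphisms of `PSU_n(q)`, step 16: the Siegel elements `s(e, x z, 0)` with `z`
isotropic in `W` are also Siegel elements with centre `z`; consequences for `φ` and `γ` on the
isotropic vectors of `W`.
-/
import Cfsg.Agent.Lib.Helper45.PSUAut.Equiv

set_option autoImplicit false

namespace Cfsg.Agent.Lib.Helper45.PSUAut

open Matrix Cfsg.Agent.S0837 Cfsg.Agent.S0781 Cfsg.Agent.S2644 Cfsg.Agent.Lib.Helper37
  Cfsg.Agent.Lib.Helper45.FTPG

variable {F : Type*} [Field F] [Fintype F] {q n : ℕ} {σ : F →+* F}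

omit [Fintype F] in
theorem SV.smul_iso (_hS : Frob σ q) {e z : Fin n → F} (he : hf σ e e = 0) (hz : hf σ z z = 0)
    (hze : hf σ z e = 0) (x : F) : SV σ e (x • z) 0 where
  iso := he
  perp := by rw [hf_smul_left, hze, mul_zero]
  tr := by rw [hf_smul_left, hf_smul_right, hz, map_zero]; ring

omit [Fintype F] in
/-- the two descriptions of a Siegel element with an isotropic parameter -/
theorem sS_swap (hS : Frob σ q) {e z : Fin n → F} (he : hf σ e e = 0) (hz : hf σ z z = 0)
    (hze : hf σ z e = 0) (x : F) :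
    sS hS e (x • z) 0 = sS hS z ((-(σ x)) • e) 0 := by
  have h1 := SV.smul_iso hS he hz hze x
  have h2 := SV.smul_iso hS hz he (hS.hf_eq_zero_symm hze) (-(σ x))
  apply su_ext
  intro y
  rw [sS_mulVec hS h1, sS_mulVec hS h2]
  simp only [hf_smul_right, map_neg, hS.invol]
  module

section

variable (hF : Fintype.card F = q ^ 2) {hS : Frob σ q} (hn : 3 ≤ n) (p : ℕ) [Fact p.Prime]
  [CharP F p] {hT : AutPresT hS n} {β : MulAut (Cfsg.PSU n F q)} {e f : Fin n → F}

include hF hn p in
/-- the image point of an isotropic point of `W` lies in `W` -/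
theorem NAut.pmap_inW (N : NAut hS hT β e f) {z : Fin n → F} (hz : IsoPt σ z)
    (hzW : InW σ e f z) : InW σ e f (pmap hS hT β z) := by
  constructor
  · have h1 := (pmap_perp hF hS hn p hT β hz N.e_pt).mp hzW.1
    exact (hf_eq_zero_of_par_right hS N.fixe).mp h1
  · have h1 := (pmap_perp hF hS hn p hT β hz N.f_pt).mp hzW.2
    exact (hf_eq_zero_of_par_right hS N.fixf).mp h1

include hF hn p in
/-- on the isotropic vectors of `W` the map `φ` follows the map on points, and `γ` vanishes -/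
theorem NAut.line (N : NAut hS hT β e f) {z : Fin n → F} (hz : IsoPt σ z)
    (hzW : InW σ e f z) (x : F) :
    (∃ t : F, phi hS β e f (x • z) = t • pmap hS hT β z) ∧ gam hS β e f (x • z) 0 = 0 := by
  have hv := SV.smul_iso hS N.pair.uu hz.2 hzW.1 x
  have hv' := SV.smul_iso hS hz.2 N.pair.uu (hS.hf_eq_zero_symm hzW.1) (-(σ x))
  obtain ⟨a1, a2, a3⟩ := N.beta_qb hF hn p hv
  have h1 : InQbar hS p z (qb hS e (x • z) 0) := by
    unfold qb
    rw [sS_swap hS N.pair.uu hz.2 hzW.1 x]
    exact inQbar_sS hF hS hn p hv'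
  have h2 := inQbar_pmap hF hS hn p hT β hz h1
  rw [a3] at h2
  have hpz := pmap_isoPt hS hT β hz
  have hpW := N.pmap_inW hF hn p hz hzW
  obtain ⟨z'', hHP⟩ := exists_HP_of_isotropic σ hS.ne hS.invol _ hpz.1 hpz.2
  obtain ⟨w', c', -, hv2, h3⟩ := exists_sS_of_inQbar hF hS hn p hHP h2
  have h4 := eq_of_mk_eq_of_pow hF (by omega) p (sS_pow_char hS p e _ _)
    (sS_pow_char hS p _ w' c') h3
  have h5 : (sS hS e (phi hS β e f (x • z)) (gam hS β e f (x • z) 0)).1.1 *ᵥ f =
      (sS hS (pmap hS hT β z) w' c').1.1 *ᵥ f := by rw [h4]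
  rw [sS_f hS N.pair a1 a2, sS_mulVec_of_perp hS hv2 (hS.hf_eq_zero_symm hpW.2)] at h5
  have h6 : phi hS β e f (x • z) + gam hS β e f (x • z) 0 • e =
      (-(hf σ f w')) • pmap hS hT β z := by
    have h5' : f + phi hS β e f (x • z) + gam hS β e f (x • z) 0 • e - f =
        f - hf σ f w' • pmap hS hT β z - f := by rw [h5]
    rw [neg_smul]
    calc phi hS β e f (x • z) + gam hS β e f (x • z) 0 • e
        = f + phi hS β e f (x • z) + gam hS β e f (x • z) 0 • e - f := by abel
      _ = f - hf σ f w' • pmap hS hT β z - f := h5'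
      _ = -(hf σ f w' • pmap hS hT β z) := by abel
  have h7 : gam hS β e f (x • z) 0 = 0 := by
    have := congrArg (fun y => hf σ y f) h6
    simp only [hf_add_left, hf_smul_left, a1.2, hpW.2, N.pair.uv hS.invol, mul_zero, zero_add,
      mul_one] at this
    exact this
  refine ⟨⟨-(hf σ f w'), ?_⟩, h7⟩
  rw [h7, zero_smul, add_zero] at h6
  exact h6

end

end Cfsg.Agent.Lib.Helper45.PSUAut
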