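/-
helper45: automorphisms of `PSU_n(q)`, step 17: a vector `w₀` of `W` whose multiples are mapped by
`φ` into the line of `φ w₀` defines a map `τ` of the field; torus elements make it multiplicative.
-/
import Cfsg.Agent.Lib.Helper45.PSUAut.Line

set_option autoImplicit false

namespace Cfsg.Agent.Lib.Helper45.PSUAut

open Matrix Cfsg.Agent.S0837 Cfsg.Agent.S0781 Cfsg.Agent.S2644 Cfsg.Agent.Lib.Helper37
  Cfsg.Agent.Lib.Helper45.FTPG

variable {F : Type*} [Field F] [Fintype F] {q n : ℕ} {σ : F →+* F}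

/-- the multiples of `w₀` are mapped into the line of `φ w₀` -/
def LineV (hS : Frob σ q) (β : MulAut (Cfsg.PSU n F q)) (e f w₀ : Fin n → F) : Prop :=
  InW σ e f w₀ ∧ w₀ ≠ 0 ∧ ∀ x : F, ∃ t : F, phi hS β e f (x • w₀) = t • phi hS β e f w₀

/-- the map of the field defined by `w₀` -/
noncomputable def tauOf (hS : Frob σ q) (β : MulAut (Cfsg.PSU n F q)) (e f w₀ : Fin n → F)
    (x : F) : F := by
  classical
  exact if h : ∃ t : F, phi hS β e f (x • w₀) = t • phi hS β e f w₀ then Classical.choose h else 0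

/-- the elements `κ` with `τ (κ x) = τ κ τ x` -/
def MulSet (t : F → F) (k : F) : Prop := ∀ x, t (k * x) = t k * t x

omit [Fintype F] in
theorem MulSet.add {t : F → F} (ht : ∀ x y, t (x + y) = t x + t y) {k₁ k₂ : F}
    (h₁ : MulSet t k₁) (h₂ : MulSet t k₂) : MulSet t (k₁ + k₂) := by
  intro x
  rw [add_mul, ht, ht, h₁ x, h₂ x, add_mul]

omit [Fintype F] in
theorem MulSet.mul {t : F → F} {k₁ k₂ : F}
    (h₁ : MulSet t k₁) (h₂ : MulSet t k₂) : MulSet t (k₁ * k₂) := by
  intro x
  have e1 : t (k₁ * k₂) = t k₁ * t k₂ := by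
    have := h₁ k₂
    exact this
  rw [mul_assoc, h₁, h₂, e1, mul_assoc]

omit [Fintype F] in
theorem MulSet.neg {t : F → F} (ht : ∀ x, t (-x) = -t x) {k : F}
    (h : MulSet t k) : MulSet t (-k) := by
  intro x
  rw [neg_mul, ht, ht, h x, neg_mul]

omit [Fintype F] in
theorem MulSet.zero {t : F → F} (h0 : t 0 = 0) : MulSet t 0 := by
  intro x
  rw [zero_mul, h0, zero_mul]

section

variable (hF : Fintype.card F = q ^ 2) {hS : Frob σ q} (hn : 3 ≤ n) (p : ℕ) [Fact p.Prime]
  [CharP F p] {hT : AutPresT hS n} {β : MulAut (Cfsg.PSU n F q)} {e f : Fin n → F}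

include hF hn p in
theorem NAut.phi_ne_zero (N : NAut hS hT β e f) {w : Fin n → F} (hw : InW σ e f w)
    (h0 : w ≠ 0) : phi hS β e f w ≠ 0 := fun h => h0 (N.phi_eq_zero hF hn p hw h)

include hF hn p in
theorem NAut.phi_neg (N : NAut hS hT β e f) {w : Fin n → F} (hw : hf σ w e = 0) :
    phi hS β e f (-w) = -phi hS β e f w := by
  have hw' : hf σ (-w) e = 0 := by rw [hf_neg_left, hw, neg_zero]
  have h := N.phi_add hF hn p hw hw'
  rw [add_neg_cancel, N.phi_zero hF hn p] at h
  exact (neg_eq_of_add_eq_zero_right h.symm).symm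

theorem tauOf_spec (hS : Frob σ q) {β : MulAut (Cfsg.PSU n F q)} {e f w₀ : Fin n → F}
    (hL : LineV hS β e f w₀) (x : F) :
    phi hS β e f (x • w₀) = tauOf hS β e f w₀ x • phi hS β e f w₀ := by
  classical
  have h := hL.2.2 x
  unfold tauOf
  rw [dif_pos h]
  exact Classical.choose_spec h

include hF hn p in
theorem NAut.tauOf_unique (N : NAut hS hT β e f) {w₀ : Fin n → F}
    (hL : LineV hS β e f w₀) {x t : F} (h : phi hS β e f (x • w₀) = t • phi hS β e f w₀) :
    tauOf hS β e f w₀ x = t := by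
  have h1 := tauOf_spec hS hL x
  rw [h] at h1
  have h2 : (t - tauOf hS β e f w₀ x) • phi hS β e f w₀ = 0 := by
    rw [sub_smul, ← h1, sub_self]
  rcases smul_eq_zero.mp h2 with h3 | h3
  · exact (sub_eq_zero.mp h3).symm
  · exact absurd h3 (N.phi_ne_zero hF hn p hL.1 hL.2.1)

include hF hn p in
theorem NAut.tauOf_add (N : NAut hS hT β e f) {w₀ : Fin n → F}
    (hL : LineV hS β e f w₀) (x y : F) :
    tauOf hS β e f w₀ (x + y) = tauOf hS β e f w₀ x + tauOf hS β e f w₀ y := by
  apply N.tauOf_unique hF hn p hL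
  rw [add_smul, N.phi_add hF hn p (hL.1.smul x).1 (hL.1.smul y).1, tauOf_spec hS hL x,
    tauOf_spec hS hL y, add_smul]

include hF hn p in
theorem NAut.tauOf_one (N : NAut hS hT β e f) {w₀ : Fin n → F}
    (hL : LineV hS β e f w₀) : tauOf hS β e f w₀ 1 = 1 := by
  apply N.tauOf_unique hF hn p hL
  rw [one_smul, one_smul]

include hF hn p in
theorem NAut.tauOf_zero (N : NAut hS hT β e f) {w₀ : Fin n → F}
    (hL : LineV hS β e f w₀) : tauOf hS β e f w₀ 0 = 0 := by
  apply N.tauOf_unique hF hn p hL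
  rw [zero_smul, zero_smul, N.phi_zero hF hn p]

include hF hn p in
theorem NAut.tauOf_neg (N : NAut hS hT β e f) {w₀ : Fin n → F}
    (hL : LineV hS β e f w₀) (x : F) : tauOf hS β e f w₀ (-x) = -tauOf hS β e f w₀ x := by
  have h := N.tauOf_add hF hn p hL x (-x)
  rw [add_neg_cancel, N.tauOf_zero hF hn p hL] at h
  exact (neg_eq_of_add_eq_zero_right h.symm).symm

include hF hn p in
/-- a torus element with eigenvector `w₀`, whose image has eigenvector `φ w₀`, gives an element
of the multiplicative set -/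
theorem NAut.mulSet_of_torus (N : NAut hS hT β e f) {w₀ : Fin n → F}
    (hL : LineV hS β e f w₀) {g g' : ↥(Cfsg.SU n F q)}
    (hg' : β (QuotientGroup.mk g) = QuotientGroup.mk g') {l m r r' : F} (hl : l ≠ 0) (hm : m ≠ 0)
    (hge : g.1.1 *ᵥ e = l • e) (hgf : g.1.1 *ᵥ f = m • f) (hgw : g.1.1 *ᵥ w₀ = r • w₀)
    (hgw' : g'.1.1 *ᵥ (phi hS β e f w₀) = r' • phi hS β e f w₀) :
    MulSet (tauOf hS β e f w₀) (σ l * r) := by
  obtain ⟨l', m', hl', hm', hge', hgf', h⟩ := N.torus hF hn p hg' hl hm hge hgf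
  have key : ∀ x, tauOf hS β e f w₀ (σ l * r * x) = σ l' * r' * tauOf hS β e f w₀ x := by
    intro x
    apply N.tauOf_unique hF hn p hL
    have hv := cw_spec hS N.pair.uu (hL.1.smul x).1
    have h1 := (h _ _ hv).1
    have e1 : σ l • g.1.1 *ᵥ (x • w₀) = (σ l * r * x) • w₀ := by
      rw [Matrix.mulVec_smul, hgw, smul_smul, smul_smul]
      congr 1
      ring
    rw [e1] at h1
    rw [h1, tauOf_spec hS hL x, Matrix.mulVec_smul, hgw', smul_smul, smul_smul]
    congr 1
    ring
  have k1 : tauOf hS β e f w₀ (σ l * r) = σ l' * r' := by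
    have := key 1
    rwa [mul_one, N.tauOf_one hF hn p hL, mul_one] at this
  intro x
  rw [key x, k1]

include hF hn p in
/-- if every element is in the multiplicative set then `τ` is a ring homomorphism -/
theorem NAut.exists_ringHom (N : NAut hS hT β e f) {w₀ : Fin n → F}
    (hL : LineV hS β e f w₀) (hD : ∀ k, MulSet (tauOf hS β e f w₀) k) :
    ∃ τ : F →+* F, ∀ x, phi hS β e f (x • w₀) = τ x • phi hS β e f w₀ := by
  refine ⟨{ toFun := tauOf hS β e f w₀
            map_one' := N.tauOf_one hF hn p hL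
            map_mul' := fun x y => hD x y
            map_zero' := N.tauOf_zero hF hn p hL
            map_add' := N.tauOf_add hF hn p hL }, fun x => ?_⟩
  exact tauOf_spec hS hL x

end

end Cfsg.Agent.Lib.Helper45.PSUAut
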