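/-
helper45: automorphisms of `PSU_n(q)`, step 18: once `φ` is `τ`-semilinear on `W`, the form and the
parameters are transformed by `τ` up to a factor `ν` fixed by `σ`, and an additive defect `δ`.
-/
import Cfsg.Agent.Lib.Helper45.PSUAut.Tau

set_option autoImplicit false

namespace Cfsg.Agent.Lib.Helper45.PSUAut

open Matrix Cfsg.Agent.S0837 Cfsg.Agent.S0781 Cfsg.Agent.S2644 Cfsg.Agent.Lib.Helper37
  Cfsg.Agent.Lib.Helper45.FTPG

variable {F : Type*} [Field F] [Fintype F] {q n : ℕ} {σ : F →+* F}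

/-- `φ` is `τ`-semilinear on `W` -/
def SemiLin (hS : Frob σ q) (β : MulAut (Cfsg.PSU n F q)) (e f : Fin n → F) (τ : F →+* F) : Prop :=
  ∀ w, InW σ e f w → ∀ x : F, phi hS β e f (x • w) = τ x • phi hS β e f w

/-- the defect of `γ` -/
noncomputable def del (hS : Frob σ q) (β : MulAut (Cfsg.PSU n F q)) (e f : Fin n → F)
    (τ : F →+* F) (ν : F) (w : Fin n → F) : F :=
  gam hS β e f w (cw σ e w) - ν * τ (cw σ e w)

/-- the form and the parameters are transformed by `τ` up to the factor `ν` -/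
structure FormLin (hS : Frob σ q) (β : MulAut (Cfsg.PSU n F q)) (e f : Fin n → F) (τ : F →+* F)
    (ν : F) : Prop where
  semi : SemiLin hS β e f τ
  fix : σ ν = ν
  ne : ν ≠ 0
  am : ∀ m, m + σ m = 0 → amap hS β e f m = ν * τ m
  form : ∀ w w', InW σ e f w → InW σ e f w' →
    hf σ (phi hS β e f w) (phi hS β e f w') = ν * τ (hf σ w w')

omit [Fintype F] in
theorem tau_comm (hS : Frob σ q) (τ : F →+* F) (x : F) : τ (σ x) = σ (τ x) := by
  rw [hS.pow, hS.pow, map_pow]

theorem tau_surj (τ : F →+* F) : Function.Surjective τ :=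
  Finite.injective_iff_surjective.mp τ.injective

omit [Fintype F] in
theorem exists_sub_eq (hS : Frob σ q) {m : F} (hm : m + σ m = 0) : ∃ l : F, l - σ l = m := by
  obtain ⟨t, ht⟩ := hS.exists_ne
  have hd : t - σ t ≠ 0 := fun h => ht (sub_eq_zero.mp h).symm
  have hsm : σ m = -m := by linear_combination hm
  refine ⟨m * t / (t - σ t), ?_⟩
  rw [map_div₀, map_mul, map_sub, hS.invol, hsm]
  have hd' : σ t - t ≠ 0 := fun h => ht (sub_eq_zero.mp h)
  field_simp
  ring

section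

variable (hF : Fintype.card F = q ^ 2) {hS : Frob σ q} (hn : 3 ≤ n) (p : ℕ) [Fact p.Prime]
  [CharP F p] {hT : AutPresT hS n} {β : MulAut (Cfsg.PSU n F q)} {e f : Fin n → F}

include hF hn p in
theorem NAut.amap_zero (N : NAut hS hT β e f) : amap hS β e f 0 = 0 := by
  have h := N.amap_add hF hn p (tr0_zero (σ := σ)) (tr0_zero (σ := σ))
  rw [add_zero] at h
  linear_combination -h

include hn in
omit [Fintype F] in
theorem exists_unit_pair (hS : Frob σ q) (h : HP σ e f) :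
    ∃ w w' : Fin n → F, InW σ e f w ∧ InW σ e f w' ∧ hf σ w w' = 1 := by
  obtain ⟨a, hae, haf, haa⟩ := exists_aniso_perp σ hS.ne hS.invol hn h
  have ha : InW σ e f a := ⟨hae, haf⟩
  refine ⟨(hf σ a a)⁻¹ • a, a, ha.smul _, ha, ?_⟩
  rw [hf_smul_left, inv_mul_cancel₀ haa]

include hF hn p in
/-- the factor `ν` -/
theorem NAut.exists_nu (N : NAut hS hT β e f) {τ : F →+* F} (hSL : SemiLin hS β e f τ) :
    ∃ ν : F, FormLin hS β e f τ ν := by
  obtain ⟨w, w', hw, hw', h1⟩ := exists_unit_pair hn hS N.pair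
  set B₀ := hf σ (phi hS β e f w) (phi hS β e f w') with hB₀
  have key : ∀ l : F, amap hS β e f (l - σ l) = τ l * B₀ - σ (τ l * B₀) := by
    intro l
    have h := N.amap_comm hF hn p (hw.smul l).1 hw'.1
    rw [hSL w hw l] at h
    have h2 : hf σ w' w = 1 := by rw [hf_symm σ hS.invol, h1, map_one]
    have h3 : hf σ (phi hS β e f w') (phi hS β e f w) = σ B₀ := hf_symm σ hS.invol _ _
    rw [hf_smul_left, hf_smul_right, h1, hf_smul_left, hf_smul_right, h2, h3, mul_one,
      mul_one] at h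
    rw [h, map_mul]
  have hfix : σ B₀ = B₀ := by
    have h := key 1
    rw [map_one, sub_self, N.amap_zero hF hn p, map_one, one_mul] at h
    linear_combination h
  have hne : B₀ ≠ 0 := by
    intro h0
    obtain ⟨t, ht⟩ := hS.exists_ne
    have h := key t
    rw [h0, mul_zero, map_zero, sub_zero] at h
    have hm : (t - σ t) + σ (t - σ t) = 0 := by rw [map_sub, hS.invol]; ring
    have := N.amap_eq_zero hF hn p hm h
    exact ht (sub_eq_zero.mp this).symm
  have ham : ∀ m, m + σ m = 0 → amap hS β e f m = B₀ * τ m := by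
    intro m hm
    obtain ⟨l, rfl⟩ := exists_sub_eq hS hm
    rw [key l, map_mul, hfix, map_sub, tau_comm hS τ l]
    ring
  have hH : ∀ w₁ w₂, InW σ e f w₁ → InW σ e f w₂ →
      σ (hf σ (phi hS β e f w₁) (phi hS β e f w₂) - B₀ * τ (hf σ w₁ w₂)) =
        hf σ (phi hS β e f w₁) (phi hS β e f w₂) - B₀ * τ (hf σ w₁ w₂) := by
    intro w₁ w₂ hw₁ hw₂
    have h := N.amap_comm hF hn p hw₁.1 hw₂.1
    have h21 : hf σ w₂ w₁ = σ (hf σ w₁ w₂) := hf_symm σ hS.invol _ _
    have h21' : hf σ (phi hS β e f w₂) (phi hS β e f w₁) =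
        σ (hf σ (phi hS β e f w₁) (phi hS β e f w₂)) := hf_symm σ hS.invol _ _
    have hm : (hf σ w₁ w₂ - hf σ w₂ w₁) + σ (hf σ w₁ w₂ - hf σ w₂ w₁) = 0 := by
      rw [h21, map_sub, hS.invol]; ring
    rw [ham _ hm, h21, h21', map_sub, tau_comm hS τ] at h
    rw [map_sub, map_mul, hfix]
    linear_combination h
  refine ⟨B₀, hSL, hfix, hne, ham, ?_⟩
  intro w₁ w₂ hw₁ hw₂
  obtain ⟨t, ht⟩ := hS.exists_ne
  obtain ⟨l, rfl⟩ := tau_surj τ t
  have e1 := hH w₁ w₂ hw₁ hw₂
  have e2 := hH (l • w₁) w₂ (hw₁.smul l) hw₂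
  rw [hSL w₁ hw₁ l, hf_smul_left, hf_smul_left, map_mul] at e2
  have e3 : τ l * hf σ (phi hS β e f w₁) (phi hS β e f w₂) - B₀ * (τ l * τ (hf σ w₁ w₂)) =
      τ l * (hf σ (phi hS β e f w₁) (phi hS β e f w₂) - B₀ * τ (hf σ w₁ w₂)) := by ring
  rw [e3, map_mul, e1] at e2
  have e4 : (σ (τ l) - τ l) *
      (hf σ (phi hS β e f w₁) (phi hS β e f w₂) - B₀ * τ (hf σ w₁ w₂)) = 0 := by
    linear_combination e2
  rcases mul_eq_zero.mp e4 with h5 | h5
  · exact absurd (sub_eq_zero.mp h5) ht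
  · exact sub_eq_zero.mp h5

include hF hn p in
/-- `γ` in terms of `τ`, `ν` and the defect -/
theorem NAut.gam_eq_del (N : NAut hS hT β e f) {τ : F →+* F} {ν : F}
    (hL : FormLin hS β e f τ ν) {w : Fin n → F} {c : F} (hv : SV σ e w c) :
    gam hS β e f w c = ν * τ c + del hS β e f τ ν w := by
  have hv0 := cw_spec hS N.pair.uu hv.perp
  have h := N.gam_add hF hn p hv0 hv
  have hm : (c - cw σ e w) + σ (c - cw σ e w) = 0 := by
    rw [map_sub]; linear_combination hv.tr - hv0.tr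
  rw [hL.am _ hm, map_sub] at h
  unfold del
  rw [h]
  ring

include hF hn p in
/-- the defect is additive -/
theorem NAut.del_add (N : NAut hS hT β e f) {τ : F →+* F} {ν : F}
    (hL : FormLin hS β e f τ ν) {w₁ w₂ : Fin n → F} (h₁ : InW σ e f w₁) (h₂ : InW σ e f w₂) :
    del hS β e f τ ν (w₁ + w₂) = del hS β e f τ ν w₁ + del hS β e f τ ν w₂ := by
  have hv₁ := cw_spec hS N.pair.uu h₁.1
  have hv₂ := cw_spec hS N.pair.uu h₂.1
  have h := N.gam_mul hF hn p hv₁ hv₂
  rw [N.gam_eq_del hF hn p hL (hv₁.mul hS hv₂), N.gam_eq_del hF hn p hL hv₁,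
    N.gam_eq_del hF hn p hL hv₂, hL.form w₂ w₁ h₂ h₁, map_sub, map_add] at h
  linear_combination h

include hF hn p in
theorem NAut.del_zero (N : NAut hS hT β e f) {τ : F →+* F} {ν : F}
    (hL : FormLin hS β e f τ ν) : del hS β e f τ ν 0 = 0 := by
  have h := N.del_add hF hn p hL (InW.zero e f) (InW.zero e f)
  rw [add_zero] at h
  linear_combination -h

include hF hn p in
theorem NAut.del_neg (N : NAut hS hT β e f) {τ : F →+* F} {ν : F}
    (hL : FormLin hS β e f τ ν) {w : Fin n → F} (hw : InW σ e f w) :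
    del hS β e f τ ν (-w) = -del hS β e f τ ν w := by
  have h := N.del_add hF hn p hL hw hw.neg
  rw [add_neg_cancel, N.del_zero hF hn p hL] at h
  linear_combination -h

end

end Cfsg.Agent.Lib.Helper45.PSUAut
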