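/-
helper45: automorphisms of `PSU_n(q)`, step 19: semilinearity of `φ` and vanishing of the defect
when `W` contains a non-zero isotropic vector.
-/
import Cfsg.Agent.Lib.Helper45.PSUAut.Forms

set_option autoImplicit false

namespace Cfsg.Agent.Lib.Helper45.PSUAut

open Matrix Cfsg.Agent.S0837 Cfsg.Agent.S0781 Cfsg.Agent.S2644 Cfsg.Agent.Lib.Helper37
  Cfsg.Agent.Lib.Helper45.FTPG

variable {F : Type*} [Field F] [Fintype F] {q n : ℕ} {σ : F →+* F}

omit [Fintype F] in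
theorem InW.sub {e f w w' : Fin n → F} (h : InW σ e f w) (h' : InW σ e f w') :
    InW σ e f (w - w') := by
  rw [sub_eq_add_neg]
  exact h.add h'.neg

omit [Fintype F] in
/-- an isotropic vector of `W` has a hyperbolic partner in `W` -/
theorem exists_HP_in_W (hS : Frob σ q) {e f z : Fin n → F} (h : HP σ e f) (hz : IsoPt σ z)
    (hzW : InW σ e f z) : ∃ z₁, HP σ z z₁ ∧ InW σ e f z₁ := by
  obtain ⟨v, hv⟩ := exists_HP_of_isotropic σ hS.ne hS.invol z hz.1 hz.2
  have h1 : hf σ (pr σ e f v) z = 1 := by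
    rw [hf_pr_left σ hS.invol v z hzW.1 hzW.2, hv.vu]
  obtain ⟨a, b, hab⟩ := exists_partner σ hS.ne hS.invol z (pr σ e f v) hz.2
    (by rw [h1]; exact one_ne_zero)
  exact ⟨_, hab, ((InW.of_pr hS h v).smul a).add (hzW.smul b)⟩

omit [Fintype F] in
/-- `W` is additively generated by its isotropic vectors -/
theorem W_gen (hS : Frob σ q) {e f z₀ z₁ : Fin n → F} (h' : HP σ z₀ z₁)
    (hz₀ : InW σ e f z₀) (hz₁ : InW σ e f z₁) (P : (Fin n → F) → Prop)
    (hadd : ∀ w w', InW σ e f w → InW σ e f w' → P w → P w' → P (w + w'))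
    (hneg : ∀ w, InW σ e f w → P w → P (-w))
    (hiso : ∀ z, InW σ e f z → hf σ z z = 0 → P z) : ∀ w, InW σ e f w → P w := by
  intro w hw
  have hpw : InW σ e f (pr σ z₀ z₁ w) := by
    unfold pr
    exact (hw.sub (hz₀.smul _)).sub (hz₁.smul _)
  have key : P (pr σ z₀ z₁ w) := by
    by_cases h0 : hf σ (pr σ z₀ z₁ w) (pr σ z₀ z₁ w) = 0
    · exact hiso _ hpw h0
    · obtain ⟨a, ha⟩ := trace_surj σ hS.ne hS.invol (-(hf σ (pr σ z₀ z₁ w) (pr σ z₀ z₁ w)))
        (by rw [map_neg, hf_self_fixed σ hS.invol])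
      have hw'0 : hf σ (pr σ z₀ z₁ w) z₀ = 0 := hf_pr_u σ h' w
      have hw'1 : hf σ (pr σ z₀ z₁ w) z₁ = 0 := hf_pr_v σ hS.invol h' w
      have h0w' : hf σ z₀ (pr σ z₀ z₁ w) = 0 := hS.hf_eq_zero_symm hw'0
      have h1w' : hf σ z₁ (pr σ z₀ z₁ w) = 0 := hS.hf_eq_zero_symm hw'1
      have hz2 : hf σ (pr σ z₀ z₁ w + a • z₀ + z₁) (pr σ z₀ z₁ w + a • z₀ + z₁) = 0 := by
        simp only [hf_add_left, hf_add_right, hf_smul_left, hf_smul_right, hw'0, hw'1, h0w', h1w',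
          h'.uu, h'.vv, h'.vu, h'.uv hS.invol]
        linear_combination ha
      have hW2 : InW σ e f (pr σ z₀ z₁ w + a • z₀ + z₁) := (hpw.add (hz₀.smul a)).add hz₁
      have e1 : pr σ z₀ z₁ w = (pr σ z₀ z₁ w + a • z₀ + z₁) + (-(a • z₀)) + (-z₁) := by abel
      rw [e1]
      have p1 : P (pr σ z₀ z₁ w + a • z₀ + z₁) := hiso _ hW2 hz2
      have p2 : P (-(a • z₀)) := hneg _ (hz₀.smul a) (hiso _ (hz₀.smul a) (iso_smul a h'.uu))
      have p3 : P (-z₁) := hneg _ hz₁ (hiso _ hz₁ h'.vv)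
      exact hadd _ _ (hW2.add (hz₀.smul a).neg) hz₁.neg
        (hadd _ _ hW2 (hz₀.smul a).neg p1 p2) p3
  have p1 : P (hf σ w z₁ • z₀) := hiso _ (hz₀.smul _) (iso_smul _ h'.uu)
  have p2 : P (hf σ w z₀ • z₁) := hiso _ (hz₁.smul _) (iso_smul _ h'.vv)
  have e2 := pr_eq σ z₀ z₁ w
  rw [e2]
  exact hadd _ _ ((hz₀.smul _).add (hz₁.smul _)) hpw
    (hadd _ _ (hz₀.smul _) (hz₁.smul _) p1 p2) key

section

variable (hF : Fintype.card F = q ^ 2) {hS : Frob σ q} (hn : 3 ≤ n) (p : ℕ) [Fact p.Prime]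
  [CharP F p] {hT : AutPresT hS n} {β : MulAut (Cfsg.PSU n F q)} {e f : Fin n → F}

include hF hn p in
/-- an isotropic vector of `W` is a line vector, and `φ` follows the map on points -/
theorem NAut.lineV_iso (N : NAut hS hT β e f) {z : Fin n → F} (hz : IsoPt σ z)
    (hzW : InW σ e f z) :
    LineV hS β e f z ∧ Par (K := F) (pmap hS hT β z) (phi hS β e f z) := by
  obtain ⟨⟨t₁, ht₁⟩, -⟩ := N.line hF hn p hz hzW 1
  rw [one_smul] at ht₁
  have hφ := N.phi_ne_zero hF hn p hzW hz.1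
  have ht₁0 : t₁ ≠ 0 := by
    rintro rfl
    rw [zero_smul] at ht₁
    exact hφ ht₁
  refine ⟨⟨hzW, hz.1, fun x => ?_⟩, ⟨t₁⁻¹, inv_ne_zero ht₁0, ?_⟩⟩
  · obtain ⟨⟨t, ht⟩, -⟩ := N.line hF hn p hz hzW x
    refine ⟨t / t₁, ?_⟩
    rw [ht, ht₁, smul_smul, div_mul_cancel₀ _ ht₁0]
  · rw [ht₁, smul_smul, inv_mul_cancel₀ ht₁0, one_smul]

include hF hn p in
theorem NAut.mulSet_sq (N : NAut hS hT β e f) {z : Fin n → F} (hz : IsoPt σ z)
    (hzW : InW σ e f z) {l : F} (hl : l ≠ 0) :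
    MulSet (tauOf hS β e f z) (σ l * σ l) := by
  obtain ⟨hL, hpar⟩ := N.lineV_iso hF hn p hz hzW
  obtain ⟨z₁, hHP, hz₁W⟩ := exists_HP_in_W hS N.pair hz hzW
  obtain ⟨g, hge, hgf, hgz⟩ := exists_torB hS N.pair hHP hzW hz₁W hl
  obtain ⟨g', hg'⟩ := QuotientGroup.mk_surjective (β (QuotientGroup.mk g))
  obtain ⟨r', -, hr'⟩ := stab_pmap hF hn hg'.symm hz hpar (hS.ne_zero hl) hgz
  exact N.mulSet_of_torus hF hn p hL hg'.symm hl (inv_ne_zero (hS.ne_zero hl)) hge hgf hgz hr'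

include hF hn p in
theorem NAut.mulSet_all_B (N : NAut hS hT β e f) {z : Fin n → F} (hz : IsoPt σ z)
    (hzW : InW σ e f z) (k : F) : MulSet (tauOf hS β e f z) k := by
  obtain ⟨hL, -⟩ := N.lineV_iso hF hn p hz hzW
  have hsq : ∀ s : F, MulSet (tauOf hS β e f z) (s * s) := by
    intro s
    by_cases hs : s = 0
    · rw [hs, mul_zero]
      exact MulSet.zero (N.tauOf_zero hF hn p hL)
    · have := N.mulSet_sq hF hn p hz hzW (hS.ne_zero hs)
      rwa [hS.invol] at this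
  by_cases h2 : (2 : F) = 0
  · have hp2 : ringChar F = 2 :=
      CharP.ringChar_of_prime_eq_zero Nat.prime_two (by exact_mod_cast h2)
    obtain ⟨s, rfl⟩ := FiniteField.isSquare_of_char_two hp2 k
    exact hsq s
  · have e1 : k = ((k + 1) / 2) * ((k + 1) / 2) + -(((k - 1) / 2) * ((k - 1) / 2)) := by
      field_simp
      ring
    rw [e1]
    exact MulSet.add (N.tauOf_add hF hn p hL) (hsq _) (MulSet.neg (N.tauOf_neg hF hn p hL) (hsq _))

include hF hn p in
theorem NAut.exists_tau_iso (N : NAut hS hT β e f) {z : Fin n → F} (hz : IsoPt σ z)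
    (hzW : InW σ e f z) :
    ∃ τ : F →+* F, ∀ x, phi hS β e f (x • z) = τ x • phi hS β e f z :=
  N.exists_ringHom hF hn p (N.lineV_iso hF hn p hz hzW).1 (N.mulSet_all_B hF hn p hz hzW)

theorem semi_smul {hS : Frob σ q} {β : MulAut (Cfsg.PSU n F q)} {e f : Fin n → F}
    {τ : F →+* F} {z : Fin n → F}
    (hP : ∀ x, phi hS β e f (x • z) = τ x • phi hS β e f z) (t : F) :
    ∀ x, phi hS β e f (x • t • z) = τ x • phi hS β e f (t • z) := by
  intro x
  rw [smul_smul, hP, hP t, smul_smul, map_mul]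

include hF hn p in
theorem NAut.tau_eq_of_add (N : NAut hS hT β e f) {z z' : Fin n → F} (hz : IsoPt σ z)
    (hzW : InW σ e f z) (hz' : IsoPt σ z') (hz'W : InW σ e f z')
    (hnp : ¬ Par (K := F) z' z) (hsum : hf σ (z + z') (z + z') = 0) {τ : F →+* F}
    (hP : ∀ x, phi hS β e f (x • z) = τ x • phi hS β e f z) :
    ∀ x, phi hS β e f (x • z') = τ x • phi hS β e f z' := by
  have hne : z + z' ≠ 0 := by
    intro h0
    apply hnp
    refine ⟨-1, by norm_num, ?_⟩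
    rw [neg_one_smul]
    exact eq_neg_of_add_eq_zero_right h0
  obtain ⟨τ', hτ'⟩ := N.exists_tau_iso hF hn p hz' hz'W
  obtain ⟨τ'', hτ''⟩ := N.exists_tau_iso hF hn p ⟨hne, hsum⟩ (hzW.add hz'W)
  have hI : I2 (K := F) (phi hS β e f z) (phi hS β e f z') := by
    by_contra hI
    have h1 := par_of_not_I2 (N.phi_ne_zero hF hn p hzW hz.1) (N.phi_ne_zero hF hn p hz'W hz'.1) hI
    obtain ⟨-, hp1⟩ := N.lineV_iso hF hn p hz hzW
    obtain ⟨-, hp2⟩ := N.lineV_iso hF hn p hz' hz'W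
    have h2 : Par (K := F) (pmap hS hT β z') (pmap hS hT β z) := (hp2.trans h1).trans hp1.symm
    exact hnp ((pmap_par_iff hF hS hn hT β hz hz').mp h2)
  intro x
  have h3 := hτ'' x
  rw [smul_add, N.phi_add hF hn p (hzW.smul x).1 (hz'W.smul x).1, N.phi_add hF hn p hzW.1 hz'W.1,
    hP x, hτ' x, smul_add] at h3
  have h4 : (τ x - τ'' x) • phi hS β e f z + (τ' x - τ'' x) • phi hS β e f z' = 0 := by
    rw [sub_smul, sub_smul]
    have : τ x • phi hS β e f z + τ' x • phi hS β e f z' -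
        (τ'' x • phi hS β e f z + τ'' x • phi hS β e f z') = 0 := by rw [h3, sub_self]
    rw [← this]
    abel
  obtain ⟨h5, h6⟩ := hI _ _ h4
  have h7 : τ' x = τ x := by linear_combination h6 - h5
  rw [hτ' x, h7]

include hF hn p in
/-- semilinearity of `φ` when `W` contains a non-zero isotropic vector -/
theorem NAut.semiLin_B (N : NAut hS hT β e f) {z₀ : Fin n → F} (hz₀ : IsoPt σ z₀)
    (hz₀W : InW σ e f z₀) : ∃ τ : F →+* F, SemiLin hS β e f τ := by
  obtain ⟨τ, hτ⟩ := N.exists_tau_iso hF hn p hz₀ hz₀W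
  refine ⟨τ, ?_⟩
  have hiso : ∀ z, InW σ e f z → hf σ z z = 0 →
      ∀ x, phi hS β e f (x • z) = τ x • phi hS β e f z := by
    intro z hzW hzz
    by_cases hz0 : z = 0
    · intro x
      rw [hz0, smul_zero, N.phi_zero hF hn p, smul_zero]
    have hz : IsoPt σ z := ⟨hz0, hzz⟩
    by_cases hpar : Par (K := F) z z₀
    · obtain ⟨c, -, rfl⟩ := hpar
      exact semi_smul hτ c
    · obtain ⟨t, ht0, htiso⟩ : ∃ t : F, t ≠ 0 ∧ hf σ (z₀ + t • z) (z₀ + t • z) = 0 := by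
        have hsym : hf σ z₀ z = σ (hf σ z z₀) := hf_symm σ hS.invol _ _
        by_cases hb0 : hf σ z z₀ = 0
        · refine ⟨1, one_ne_zero, ?_⟩
          simp only [hf_add_left, hf_add_right, hf_smul_left, hf_smul_right, hz₀.2, hzz, hsym, hb0,
            map_zero, mul_zero, add_zero]
        · refine ⟨eps hS / hf σ z z₀, div_ne_zero (eps_ne_zero hS) hb0, ?_⟩
          simp only [hf_add_left, hf_add_right, hf_smul_left, hf_smul_right, hz₀.2, hzz, hsym,
            map_div₀, mul_zero, add_zero, zero_add]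
          have h1 := eps_tr0 hS
          have hb0' : σ (hf σ z z₀) ≠ 0 := hS.ne_zero hb0
          field_simp
          linear_combination h1
      have hnp : ¬ Par (K := F) (t • z) z₀ := by
        intro hp
        apply hpar
        obtain ⟨c, hc, hcz⟩ := hp
        refine ⟨t⁻¹ * c, mul_ne_zero (inv_ne_zero ht0) hc, ?_⟩
        rw [← smul_smul, ← hcz, smul_smul, inv_mul_cancel₀ ht0, one_smul]
      have h1 := N.tau_eq_of_add hF hn p hz₀ hz₀W (hz.smul ht0) (hzW.smul t) hnp htiso hτ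
      have h2 := semi_smul h1 t⁻¹
      intro x
      have h3 := h2 x
      rwa [smul_smul t⁻¹ t z, inv_mul_cancel₀ ht0, one_smul] at h3
  obtain ⟨z₁, hHP, hz₁W⟩ := exists_HP_in_W hS N.pair hz₀ hz₀W
  refine W_gen hS hHP hz₀W hz₁W (fun w => ∀ x, phi hS β e f (x • w) = τ x • phi hS β e f w)
    ?_ ?_ hiso
  · intro w w' hw hw' h1 h2 x
    rw [smul_add, N.phi_add hF hn p (hw.smul x).1 (hw'.smul x).1, h1 x, h2 x,
      N.phi_add hF hn p hw.1 hw'.1, smul_add]
  · intro w hw h1 x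
    rw [smul_neg, N.phi_neg hF hn p (hw.smul x).1, h1 x, N.phi_neg hF hn p hw.1, smul_neg]

include hF hn p in
/-- the defect vanishes when `W` contains a non-zero isotropic vector -/
theorem NAut.del_eq_zero_B (N : NAut hS hT β e f) {z₀ : Fin n → F} (hz₀ : IsoPt σ z₀)
    (hz₀W : InW σ e f z₀) {τ : F →+* F} {ν : F} (hL : FormLin hS β e f τ ν) :
    ∀ w, InW σ e f w → del hS β e f τ ν w = 0 := by
  obtain ⟨z₁, hHP, hz₁W⟩ := exists_HP_in_W hS N.pair hz₀ hz₀W
  refine W_gen hS hHP hz₀W hz₁W (fun w => del hS β e f τ ν w = 0) ?_ ?_ ?_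
  · intro w w' hw hw' h1 h2
    show del hS β e f τ ν (w + w') = 0
    rw [N.del_add hF hn p hL hw hw', h1, h2, add_zero]
  · intro w hw h1
    show del hS β e f τ ν (-w) = 0
    rw [N.del_neg hF hn p hL hw, h1, neg_zero]
  · intro z hzW hzz
    show del hS β e f τ ν z = 0
    by_cases hz0 : z = 0
    · rw [hz0]
      exact N.del_zero hF hn p hL
    have h1 := (N.line hF hn p ⟨hz0, hzz⟩ hzW 1).2
    rw [one_smul] at h1
    have hv : SV σ e z 0 := by
      have := SV.smul_iso hS N.pair.uu hzz hzW.1 1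
      rwa [one_smul] at this
    have h2 := N.gam_eq_del hF hn p hL hv
    rw [h1, map_zero, mul_zero, zero_add] at h2
    exact h2.symm

end

end Cfsg.Agent.Lib.Helper45.PSUAut
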