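/-
helper45: automorphisms of `PSU_n(q)`, step 20: semilinearity of `φ` and vanishing of the defect
when `W` is an anisotropic line (dimension three, `q ≥ 3`).
-/
import Cfsg.Agent.Lib.Helper45.PSUAut.CaseB

set_option autoImplicit false

namespace Cfsg.Agent.Lib.Helper45.PSUAut

open Matrix Cfsg.Agent.S0837 Cfsg.Agent.S0781 Cfsg.Agent.S2644 Cfsg.Agent.Lib.Helper37
  Cfsg.Agent.Lib.Helper45.FTPG

variable {F : Type*} [Field F] [Fintype F] {q n : ℕ} {σ : F →+* F}

/-- for `q ≥ 3` some non-zero element `s` has `σ(s)³ ≠ s³` -/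
theorem exists_cube_ne (hF : Fintype.card F = q ^ 2) (hq : 3 ≤ q) (hS : Frob σ q) :
    ∃ s : F, s ≠ 0 ∧ σ s ^ 3 ≠ s ^ 3 := by
  classical
  obtain ⟨ζ, hζ⟩ := IsCyclic.exists_generator (α := Fˣ)
  have hord : orderOf ζ = q ^ 2 - 1 := by
    rw [orderOf_eq_card_of_forall_mem_zpowers hζ, Nat.card_eq_fintype_card, Fintype.card_units, hF]
  refine ⟨(ζ : F), ζ.ne_zero, ?_⟩
  intro h1
  rw [hS.pow, ← pow_mul] at h1
  have h2 : ζ ^ (q * 3) = ζ ^ 3 := by
    apply Units.ext
    rw [Units.val_pow_eq_pow_val, Units.val_pow_eq_pow_val]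
    exact h1
  have h3 := pow_eq_pow_iff_modEq.mp h2
  rw [hord] at h3
  have h4 : q ^ 2 - 1 ∣ q * 3 - 3 := (Nat.modEq_iff_dvd' (by omega)).mp h3.symm
  have h5 := Nat.le_of_dvd (by omega) h4
  have h6 : q ^ 2 = q * q := sq q
  have h7 : 3 * q ≤ q * q := Nat.mul_le_mul_right q hq
  omega

omit [Fintype F] in
/-- if `W` is a line then the dimension is three -/
theorem dim_eq_three_of_line (hn : 3 ≤ n) {e f a : Fin n → F}
    (hline : ∀ y : Fin n → F, hf σ y e = 0 → hf σ y f = 0 → y = (hf σ y a / hf σ a a) • a)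
    (hS : Frob σ q) (h : HP σ e f) : n = 3 := by
  have h1 : n ≤ 3 := by
    apply le_of_span_top ![e, f, a]
    intro y
    have hy := pr_eq σ e f y
    have hpy := hline (pr σ e f y) (hf_pr_u σ h y) (hf_pr_v σ hS.invol h y)
    rw [hy, hpy]
    have he : e ∈ Submodule.span F (Set.range ![e, f, a]) := Submodule.subset_span ⟨0, rfl⟩
    have hf' : f ∈ Submodule.span F (Set.range ![e, f, a]) := Submodule.subset_span ⟨1, rfl⟩
    have ha : a ∈ Submodule.span F (Set.range ![e, f, a]) := Submodule.subset_span ⟨2, rfl⟩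
    exact Submodule.add_mem _ (Submodule.add_mem _ (Submodule.smul_mem _ _ he)
      (Submodule.smul_mem _ _ hf')) (Submodule.smul_mem _ _ ha)
  omega

section

variable (hF : Fintype.card F = q ^ 2) {hS : Frob σ q} (hn : 3 ≤ n) (p : ℕ) [Fact p.Prime]
  [CharP F p] {hT : AutPresT hS n} {β : MulAut (Cfsg.PSU n F q)} {e f : Fin n → F}

include hF hn p in
theorem NAut.lineV_A (N : NAut hS hT β e f) {a : Fin n → F} (ha : InW σ e f a)
    (haa : hf σ a a ≠ 0)
    (hline : ∀ y : Fin n → F, hf σ y e = 0 → hf σ y f = 0 → y = (hf σ y a / hf σ a a) • a) :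
    LineV hS β e f a := by
  have ha0 : a ≠ 0 := by
    rintro rfl
    exact haa (hf_zero_left σ _)
  have hφ := N.phi_ne_zero hF hn p ha ha0
  have hW := N.phi_inW hF hn p ha.1
  obtain ⟨t₁, h1⟩ : ∃ t₁ : F, phi hS β e f a = t₁ • a := ⟨_, hline _ hW.1 hW.2⟩
  have ht₁ : t₁ ≠ 0 := by
    intro h0
    rw [h0, zero_smul] at h1
    exact hφ h1
  refine ⟨ha, ha0, fun x => ?_⟩
  have hWx := N.phi_inW hF hn p (ha.smul x).1
  obtain ⟨t, h2⟩ : ∃ t : F, phi hS β e f (x • a) = t • a := ⟨_, hline _ hWx.1 hWx.2⟩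
  refine ⟨t / t₁, ?_⟩
  rw [h2, h1, smul_smul, div_mul_cancel₀ _ ht₁]

include hF hn p in
theorem NAut.mulSet_A (N : NAut hS hT β e f) {a : Fin n → F} (ha : InW σ e f a)
    (haa : hf σ a a ≠ 0)
    (hline : ∀ y : Fin n → F, hf σ y e = 0 → hf σ y f = 0 → y = (hf σ y a / hf σ a a) • a)
    {l : F} (hl : l ≠ 0) : MulSet (tauOf hS β e f a) (σ l * (σ l / l)) := by
  have hL := N.lineV_A hF hn p ha haa hline
  have hn3 := dim_eq_three_of_line hn hline hS N.pair
  obtain ⟨g, hge, hgf, hgw⟩ := exists_torA hS hn3 N.pair hl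
  obtain ⟨g', hg'⟩ := QuotientGroup.mk_surjective (β (QuotientGroup.mk g))
  have hm : (σ l)⁻¹ ≠ 0 := inv_ne_zero (hS.ne_zero hl)
  obtain ⟨l', hl', hge'⟩ := stab_pmap hF hn hg'.symm N.e_pt N.fixe hl hge
  obtain ⟨m', hm', hgf'⟩ := stab_pmap hF hn hg'.symm N.f_pt N.fixf hm hgf
  have hW := N.phi_inW hF hn p ha.1
  obtain ⟨t₁, h1⟩ : ∃ t₁ : F, phi hS β e f a = t₁ • a := ⟨_, hline _ hW.1 hW.2⟩
  have hW' := inW_mulVec hS g' hl' hm' hge' hgf' hW
  obtain ⟨t, h2⟩ : ∃ t : F, g'.1.1 *ᵥ (phi hS β e f a) = t • a := ⟨_, hline _ hW'.1 hW'.2⟩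
  have hφ := N.phi_ne_zero hF hn p ha hL.2.1
  have ht₁ : t₁ ≠ 0 := by
    intro h0
    rw [h0, zero_smul] at h1
    exact hφ h1
  have hr' : g'.1.1 *ᵥ (phi hS β e f a) = (t / t₁) • phi hS β e f a := by
    rw [h2, h1, smul_smul, div_mul_cancel₀ _ ht₁]
  exact N.mulSet_of_torus hF hn p hL hg'.symm hl hm hge hgf (hgw a ha) hr'

include hF hn p in
/-- semilinearity of `φ` when `W` is a line -/
theorem NAut.semiLin_A (N : NAut hS hT β e f) (hq : 3 ≤ q) {a : Fin n → F} (ha : InW σ e f a)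
    (haa : hf σ a a ≠ 0)
    (hline : ∀ y : Fin n → F, hf σ y e = 0 → hf σ y f = 0 → y = (hf σ y a / hf σ a a) • a) :
    ∃ τ : F →+* F, SemiLin hS β e f τ := by
  have hL := N.lineV_A hF hn p ha haa hline
  have hfix : ∀ t : F, σ t = t → MulSet (tauOf hS β e f a) t := by
    intro t ht
    by_cases ht0 : t = 0
    · rw [ht0]
      exact MulSet.zero (N.tauOf_zero hF hn p hL)
    · have h := N.mulSet_A hF hn p ha haa hline ht0
      rwa [ht, div_self ht0, mul_one] at h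
  obtain ⟨s, hs0, hs⟩ := exists_cube_ne hF hq hS
  have hss : σ s ≠ 0 := hS.ne_zero hs0
  have hu := N.mulSet_A hF hn p ha haa hline hs0
  set u := σ s * (σ s / s) with hu_def
  have hσu : σ u = s * (s / σ s) := by
    rw [hu_def, map_mul, map_div₀, hS.invol]
  have hune : u - σ u ≠ 0 := by
    intro h0
    apply hs
    rw [hσu, hu_def] at h0
    field_simp at h0
    linear_combination h0
  have hall : ∀ k, MulSet (tauOf hS β e f a) k := by
    intro y
    have hd : σ (u - σ u) = -(u - σ u) := by rw [map_sub, hS.invol]; ring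
    have ht₂ : σ ((y - σ y) / (u - σ u)) = (y - σ y) / (u - σ u) := by
      rw [map_div₀, hd, map_sub, hS.invol]
      field_simp
      ring
    have ht₁ : σ (y - (y - σ y) / (u - σ u) * u) = y - (y - σ y) / (u - σ u) * u := by
      rw [map_sub, map_mul, ht₂]
      field_simp
      ring
    have e1 : y = (y - (y - σ y) / (u - σ u) * u) + (y - σ y) / (u - σ u) * u := by ring
    rw [e1]
    exact MulSet.add (N.tauOf_add hF hn p hL) (hfix _ ht₁) (MulSet.mul (hfix _ ht₂) hu)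
  obtain ⟨τ, hτ⟩ := N.exists_ringHom hF hn p hL hall
  refine ⟨τ, ?_⟩
  intro w hw x
  rw [hline w hw.1 hw.2]
  exact semi_smul hτ _ x

include hF hn p in
/-- the defect vanishes when `W` is a line -/
theorem NAut.del_eq_zero_A (N : NAut hS hT β e f) (hq : 3 ≤ q) {a : Fin n → F}
    (hline : ∀ y : Fin n → F, hf σ y e = 0 → hf σ y f = 0 → y = (hf σ y a / hf σ a a) • a)
    {τ : F →+* F} {ν : F} (hL : FormLin hS β e f τ ν) :
    ∀ w, InW σ e f w → del hS β e f τ ν w = 0 := by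
  have hn3 := dim_eq_three_of_line hn hline hS N.pair
  obtain ⟨s, hs0, hs⟩ := exists_cube_ne hF hq hS
  have hss : σ s ≠ 0 := hS.ne_zero hs0
  have hl : σ s / s ≠ 0 := div_ne_zero hss hs0
  have hσl : σ (σ s / s) = s / σ s := by rw [map_div₀, hS.invol]
  have hN : (σ s / s) * σ (σ s / s) = 1 := by
    rw [hσl]
    field_simp
  obtain ⟨g, hge, hgf, hgw⟩ := exists_torA hS hn3 N.pair hl
  obtain ⟨g', hg'⟩ := QuotientGroup.mk_surjective (β (QuotientGroup.mk g))
  have hm : (σ (σ s / s))⁻¹ ≠ 0 := inv_ne_zero (hS.ne_zero hl)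
  obtain ⟨l', m', hl', hm', hge', hgf', h⟩ := N.torus hF hn p hg'.symm hl hm hge hgf
  -- the norm of `l'` is one
  have hN' : l' * σ l' = 1 := by
    have h1 := (h 0 (eps hS) (SV.of_tr0 N.pair.uu (eps_tr0 hS))).2
    rw [Matrix.mulVec_zero, smul_zero, hN, one_mul] at h1
    have h2 : amap hS β e f (eps hS) ≠ 0 := fun h0 =>
      eps_ne_zero hS (N.amap_eq_zero hF hn p (eps_tr0 hS) h0)
    have h3 : (l' * σ l' - 1) * amap hS β e f (eps hS) = 0 := by
      unfold amap
      linear_combination -h1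
    rcases mul_eq_zero.mp h3 with h4 | h4
    · exact sub_eq_zero.mp h4
    · exact absurd h4 h2
  set κ := σ (σ s / s) * (σ (σ s / s) / (σ s / s)) with hκ
  have hκ1 : κ - 1 ≠ 0 := by
    intro h0
    apply hs
    rw [hκ, hσl] at h0
    field_simp at h0
    linear_combination -h0
  have hdel : ∀ w, InW σ e f w → del hS β e f τ ν (κ • w) = del hS β e f τ ν w := by
    intro w hw
    have hv := cw_spec hS N.pair.uu hw.1
    have h1 := (h w _ hv).2
    obtain ⟨hv1, -⟩ := conj_qb hS g hv hl hge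
    have e1 : σ (σ s / s) • g.1.1 *ᵥ w = κ • w := by
      rw [hgw w hw, smul_smul]
    rw [e1, hN, one_mul] at hv1
    rw [e1, hN, hN', one_mul, one_mul, N.gam_eq_del hF hn p hL hv1, N.gam_eq_del hF hn p hL hv] at h1
    linear_combination h1
  have hdel' : ∀ w, InW σ e f w → del hS β e f τ ν ((κ - 1) • w) = 0 := by
    intro w hw
    have h1 := N.del_add hF hn p hL (hw.smul (κ - 1)) hw
    have e1 : (κ - 1) • w + w = κ • w := by rw [sub_smul, one_smul]; abel
    rw [e1, hdel w hw] at h1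
    linear_combination -h1
  intro w hw
  have h1 := hdel' ((κ - 1)⁻¹ • w) (hw.smul _)
  rwa [smul_smul, mul_inv_cancel₀ hκ1, one_smul] at h1

end

end Cfsg.Agent.Lib.Helper45.PSUAut
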