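/-
helper45: automorphisms of `PSU_n(q)`, step 21: combination of the two cases; the semilinear
similitude `G` assembled from `τ`, `ν`, `φ`, and its matrix.
-/
import Cfsg.Agent.Lib.Helper45.PSUAut.CaseA

set_option autoImplicit false

namespace Cfsg.Agent.Lib.Helper45.PSUAut

open Matrix Cfsg.Agent.S0837 Cfsg.Agent.S0781 Cfsg.Agent.S2644 Cfsg.Agent.Lib.Helper37
  Cfsg.Agent.Lib.Helper45.FTPG

variable {F : Type*} [Field F] [Fintype F] {q n : ℕ} {σ : F →+* F}

/-- the complete description of a normalised automorphism on the Siegel classes with centre `e` -/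
structure FullLin (hS : Frob σ q) (β : MulAut (Cfsg.PSU n F q)) (e f : Fin n → F) (τ : F →+* F)
    (ν : F) : Prop where
  fl : FormLin hS β e f τ ν
  gm : ∀ w c, InW σ e f w → SV σ e w c → gam hS β e f w c = ν * τ c

/-- the semilinear similitude attached to `τ`, `ν`, `φ` -/
noncomputable def Gmap (hS : Frob σ q) (β : MulAut (Cfsg.PSU n F q)) (e f : Fin n → F)
    (τ : F →+* F) (ν : F) (x : Fin n → F) : Fin n → F :=
  (ν * τ (hf σ x f)) • e + τ (hf σ x e) • f + phi hS β e f (pr σ e f x)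

/-- the matrix of `G` -/
noncomputable def Gmat (hS : Frob σ q) (β : MulAut (Cfsg.PSU n F q)) (e f : Fin n → F)
    (τ : F →+* F) (ν : F) : Matrix (Fin n) (Fin n) F :=
  Matrix.of fun i j => Gmap hS β e f τ ν (Pi.single j 1) i

omit [Fintype F] in
theorem pr_add (e f x y : Fin n → F) : pr σ e f (x + y) = pr σ e f x + pr σ e f y := by
  unfold pr
  rw [hf_add_left, hf_add_left]
  module

omit [Fintype F] in
theorem pr_smul (e f : Fin n → F) (c : F) (x : Fin n → F) :
    pr σ e f (c • x) = c • pr σ e f x := by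
  unfold pr
  rw [hf_smul_left, hf_smul_left]
  module

omit [Fintype F] in
theorem hf_map_tau (hS : Frob σ q) (τ : F →+* F) (x y : Fin n → F) :
    hf σ (fun j => τ (x j)) (fun j => τ (y j)) = τ (hf σ x y) := by
  unfold hf
  rw [map_sum]
  refine Finset.sum_congr rfl fun i _ => ?_
  rw [map_mul, tau_comm hS]

section

variable (hF : Fintype.card F = q ^ 2) {hS : Frob σ q} (hn : 3 ≤ n) (p : ℕ) [Fact p.Prime]
  [CharP F p] {hT : AutPresT hS n} {β : MulAut (Cfsg.PSU n F q)} {e f : Fin n → F}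

include hF hn p in
/-- the two cases combined -/
theorem NAut.exists_fullLin (N : NAut hS hT β e f) (hs : ¬ (n = 3 ∧ q = 2)) :
    ∃ (τ : F →+* F) (ν : F), FullLin hS β e f τ ν := by
  obtain ⟨a, hae, haf, haa⟩ := exists_aniso_perp σ hS.ne hS.invol hn N.pair
  rcases isotropic_or_line σ hS.ne hS.invol a hae haf haa with ⟨z, hz0, hze, hzf, hzz⟩ | hline
  · have hz : IsoPt σ z := ⟨hz0, hzz⟩
    have hzW : InW σ e f z := ⟨hze, hzf⟩
    obtain ⟨τ, hτ⟩ := N.semiLin_B hF hn p hz hzW
    obtain ⟨ν, hL⟩ := N.exists_nu hF hn p hτ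
    have hd := N.del_eq_zero_B hF hn p hz hzW hL
    refine ⟨τ, ν, hL, fun w c hw hv => ?_⟩
    rw [N.gam_eq_del hF hn p hL hv, hd w hw, add_zero]
  · have hn3 := dim_eq_three_of_line hn hline hS N.pair
    have hq2 : 2 ≤ q := Cfsg.Agent.Lib.Helper13.two_le_of_card_eq_sq hF
    have hq : 3 ≤ q := by
      by_contra hlt
      exact hs ⟨hn3, by omega⟩
    obtain ⟨τ, hτ⟩ := N.semiLin_A hF hn p hq ⟨hae, haf⟩ haa hline
    obtain ⟨ν, hL⟩ := N.exists_nu hF hn p hτ
    have hd := N.del_eq_zero_A hF hn p hq hline hL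
    refine ⟨τ, ν, hL, fun w c hw hv => ?_⟩
    rw [N.gam_eq_del hF hn p hL hv, hd w hw, add_zero]

include hF hn p in
theorem NAut.Gmap_add (N : NAut hS hT β e f) (τ : F →+* F) (ν : F) (x y : Fin n → F) :
    Gmap hS β e f τ ν (x + y) = Gmap hS β e f τ ν x + Gmap hS β e f τ ν y := by
  unfold Gmap
  rw [hf_add_left, hf_add_left, pr_add, N.phi_add hF hn p (InW.of_pr hS N.pair x).1
    (InW.of_pr hS N.pair y).1, map_add, map_add]
  module

include hF hn p in
theorem NAut.Gmap_zero (N : NAut hS hT β e f) (τ : F →+* F) (ν : F) :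
    Gmap hS β e f τ ν 0 = 0 := by
  have h := N.Gmap_add hF hn p τ ν 0 0
  rw [add_zero] at h
  exact left_eq_add.mp h

theorem Gmap_smul {hS : Frob σ q} {β : MulAut (Cfsg.PSU n F q)} {e f : Fin n → F}
    (hP : HP σ e f) {τ : F →+* F} {ν : F}
    (hL : FormLin hS β e f τ ν) (c : F) (x : Fin n → F) :
    Gmap hS β e f τ ν (c • x) = τ c • Gmap hS β e f τ ν x := by
  unfold Gmap
  rw [hf_smul_left, hf_smul_left, pr_smul, hL.semi _ (InW.of_pr hS hP x), map_mul, map_mul]
  module

include hF hn p in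
theorem NAut.Gmap_form (N : NAut hS hT β e f) {τ : F →+* F} {ν : F}
    (hL : FormLin hS β e f τ ν) (x y : Fin n → F) :
    hf σ (Gmap hS β e f τ ν x) (Gmap hS β e f τ ν y) = ν * τ (hf σ x y) := by
  have hx := N.phi_inW hF hn p (InW.of_pr hS N.pair x).1
  have hy := N.phi_inW hF hn p (InW.of_pr hS N.pair y).1
  have h1 := hL.form _ _ (InW.of_pr hS N.pair x) (InW.of_pr hS N.pair y)
  have h2 := hf_decomp hS N.pair x y
  unfold Gmap
  simp only [hf_add_left, hf_add_right, hf_smul_left, hf_smul_right, N.pair.uu, N.pair.vv,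
    N.pair.vu, N.pair.uv hS.invol, hx.1, hx.2, hy.e' hS, hy.f' hS, h1, map_mul, hL.fix]
  rw [h2, map_add, map_add, map_mul, map_mul, tau_comm hS, tau_comm hS]
  ring

include hF hn p in
/-- the matrix of `G` computes `G` -/
theorem NAut.Gmat_mulVec (N : NAut hS hT β e f) {τ : F →+* F} {ν : F}
    (hL : FormLin hS β e f τ ν) (x : Fin n → F) :
    Gmat hS β e f τ ν *ᵥ (fun j => τ (x j)) = Gmap hS β e f τ ν x := by
  classical
  set GA : (Fin n → F) →+ (Fin n → F) :=
    AddMonoidHom.mk' (Gmap hS β e f τ ν) (N.Gmap_add hF hn p τ ν) with hGA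
  have hx : x = ∑ i, x i • (Pi.single i (1 : F) : Fin n → F) := by
    ext j
    simp [Finset.sum_apply, Pi.single_apply]
  have h1 : Gmap hS β e f τ ν x = ∑ i, τ (x i) • Gmap hS β e f τ ν (Pi.single i 1) := by
    conv_lhs => rw [hx]
    show GA (∑ i, x i • (Pi.single i (1 : F) : Fin n → F)) = _
    rw [map_sum]
    refine Finset.sum_congr rfl fun i _ => ?_
    show Gmap hS β e f τ ν (x i • Pi.single i 1) = _
    rw [Gmap_smul N.pair hL]
  rw [h1]
  ext i
  simp only [Matrix.mulVec, dotProduct, Gmat, Matrix.of_apply, Finset.sum_apply, Pi.smul_apply,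
    smul_eq_mul]
  exact Finset.sum_congr rfl fun j _ => mul_comm _ _

include hF hn p in
/-- the matrix of `G` is a similitude -/
theorem NAut.Gmat_form (N : NAut hS hT β e f) {τ : F →+* F} {ν : F}
    (hL : FormLin hS β e f τ ν) (u v : Fin n → F) :
    hf σ (Gmat hS β e f τ ν *ᵥ u) (Gmat hS β e f τ ν *ᵥ v) = ν * hf σ u v := by
  have hsurj := tau_surj τ
  choose x hx using fun j => hsurj (u j)
  choose y hy using fun j => hsurj (v j)
  have hu : u = fun j => τ (x j) := funext fun j => (hx j).symm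
  have hv : v = fun j => τ (y j) := funext fun j => (hy j).symm
  rw [hu, hv, N.Gmat_mulVec hF hn p hL, N.Gmat_mulVec hF hn p hL, N.Gmap_form hF hn p hL,
    hf_map_tau hS]

end

end Cfsg.Agent.Lib.Helper45.PSUAut
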