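/-
helper45: automorphisms of `PSU_n(q)`, step 22: the map on isotropic points induced by a normalised
automorphism is the one induced by the semilinear similitude `G`.
-/
import Cfsg.Agent.Lib.Helper45.PSUAut.Gmap

set_option autoImplicit false

namespace Cfsg.Agent.Lib.Helper45.PSUAut

open Matrix Cfsg.Agent.S0837 Cfsg.Agent.S0781 Cfsg.Agent.S2644 Cfsg.Agent.Lib.Helper37
  Cfsg.Agent.Lib.Helper45.FTPG

variable {F : Type*} [Field F] [Fintype F] {q n : ℕ} {σ : F →+* F}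

section

variable (hF : Fintype.card F = q ^ 2) {hS : Frob σ q} (hn : 3 ≤ n) (p : ℕ) [Fact p.Prime]
  [CharP F p] {hT : AutPresT hS n} {β : MulAut (Cfsg.PSU n F q)} {e f : Fin n → F}

include hF hn p in
/-- the image of a Siegel class in terms of `τ`, `ν` -/
theorem NAut.beta_qb' (N : NAut hS hT β e f) {τ : F →+* F} {ν : F}
    (hL : FullLin hS β e f τ ν) {w : Fin n → F} {c : F} (hw : InW σ e f w) (hv : SV σ e w c) :
    SV σ e (phi hS β e f w) (ν * τ c) ∧
      β (qb hS e w c) = qb hS e (phi hS β e f w) (ν * τ c) := by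
  obtain ⟨-, h2, h3⟩ := N.beta_qb hF hn p hv
  rw [hL.gm w c hw hv] at h2 h3
  exact ⟨h2, h3⟩

include hF hn p in
theorem NAut.pmap_opp (N : NAut hS hT β e f) {τ : F →+* F} {ν : F}
    (hL : FullLin hS β e f τ ν) {v : Fin n → F} (hv : IsoPt σ v) (hve : hf σ v e = 1) :
    Par (K := F) (pmap hS hT β v) (Gmap hS β e f τ ν v) := by
  have hw : InW σ e f (pr σ e f v) := InW.of_pr hS N.pair v
  have hveq : v = f + pr σ e f v + hf σ v f • e := by
    have h := pr_eq σ e f v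
    rw [hve, one_smul] at h
    calc v = hf σ v f • e + f + pr σ e f v := h
      _ = f + pr σ e f v + hf σ v f • e := by abel
  have hSV : SV σ e (pr σ e f v) (hf σ v f) := by
    refine ⟨N.pair.uu, hw.1, ?_⟩
    have h := hf_decomp hS N.pair v v
    rw [hv.2, hve, map_one, mul_one, one_mul] at h
    linear_combination -h
  have h1 : (sS hS e (pr σ e f v) (hf σ v f)).1.1 *ᵥ f = v := by
    rw [sS_f hS N.pair hw hSV, ← hveq]
  have h2 : Mv hS (qb hS e (pr σ e f v) (hf σ v f)) f v := by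
    have h := mv_mk hS (sS hS e (pr σ e f v) (hf σ v f)) N.pair.vv
    rwa [h1] at h
  have h3 := (mv_pmap_iff hF hS hn hT β N.f_pt hv _).mpr h2
  obtain ⟨hSV', hβ⟩ := N.beta_qb' hF hn p hL hw hSV
  rw [hβ] at h3
  have h4 := h3.of_par_left hS N.fixf.symm (pmap_isoPt hS hT β N.f_pt).2
  unfold qb at h4
  have h5 := par_of_mv_mk hF hS hn N.f_pt (pmap_isoPt hS hT β hv) h4
  rw [sS_f hS N.pair (N.phi_inW hF hn p hw.1) hSV'] at h5
  have hG : Gmap hS β e f τ ν v =
      f + phi hS β e f (pr σ e f v) + (ν * τ (hf σ v f)) • e := by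
    unfold Gmap
    rw [hve, map_one, one_smul]
    abel
  rw [hG]
  exact h5

include hF hn p in
theorem NAut.pmap_opp' (N : NAut hS hT β e f) {τ : F →+* F} {ν : F}
    (hL : FullLin hS β e f τ ν) {v : Fin n → F} (hv : IsoPt σ v) (hve : hf σ v e ≠ 0) :
    Par (K := F) (pmap hS hT β v) (Gmap hS β e f τ ν v) := by
  have hr : (hf σ v e)⁻¹ ≠ 0 := inv_ne_zero hve
  have hv' : IsoPt σ ((hf σ v e)⁻¹ • v) := hv.smul hr
  have h1 := N.pmap_opp hF hn p hL hv' (by rw [hf_smul_left, inv_mul_cancel₀ hve])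
  rw [Gmap_smul N.pair hL.fl] at h1
  have h2 : Par (K := F) (pmap hS hT β v) (pmap hS hT β ((hf σ v e)⁻¹ • v)) :=
    (pmap_par_iff hF hS hn hT β hv' hv).mpr
      ⟨(hf σ v e)⁻¹⁻¹, inv_ne_zero hr, by rw [smul_smul, inv_mul_cancel₀ hr, one_smul]⟩
  exact h2.trans (h1.trans ⟨τ (hf σ v e)⁻¹, (map_ne_zero τ).mpr hr, rfl⟩)

include hF hn p in
theorem NAut.Gmap_e (N : NAut hS hT β e f) (τ : F →+* F) (ν : F) :
    Gmap hS β e f τ ν e = ν • e := by
  have hpr : pr σ e f e = 0 := by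
    unfold pr
    rw [N.pair.uv hS.invol, N.pair.uu, one_smul, zero_smul, sub_self, sub_zero]
  unfold Gmap
  rw [hpr, N.phi_zero hF hn p, N.pair.uv hS.invol, N.pair.uu, map_one, map_zero, mul_one,
    zero_smul, add_zero, add_zero]

include hF hn p in
theorem NAut.pmap_perp_e (N : NAut hS hT β e f) {τ : F →+* F} {ν : F}
    (hL : FullLin hS β e f τ ν) {v : Fin n → F} (hv : IsoPt σ v) (hve : hf σ v e = 0)
    (hw0 : pr σ e f v ≠ 0) :
    Par (K := F) (pmap hS hT β v) (Gmap hS β e f τ ν v) := by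
  have hw : InW σ e f (pr σ e f v) := InW.of_pr hS N.pair v
  have hveq : v = pr σ e f v + hf σ v f • e := by
    have h := pr_eq σ e f v
    rw [hve, zero_smul, add_zero] at h
    calc v = hf σ v f • e + pr σ e f v := h
      _ = pr σ e f v + hf σ v f • e := by abel
  have hww : hf σ (pr σ e f v) (pr σ e f v) = 0 := by
    have h := hf_decomp hS N.pair v v
    rw [hv.2, hve, map_zero, mul_zero, zero_mul] at h
    linear_combination -h
  have hwpt : IsoPt σ (pr σ e f v) := ⟨hw0, hww⟩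
  obtain ⟨w₁, hHP, hw₁W⟩ := exists_HP_in_W hS N.pair hwpt hw
  have hu : InW σ e f ((-(σ (hf σ v f))) • w₁) := hw₁W.smul _
  have hwu : hf σ (pr σ e f v) ((-(σ (hf σ v f))) • w₁) = -(hf σ v f) := by
    rw [hf_smul_right, map_neg, hS.invol, hHP.uv hS.invol, mul_one]
  have hSV := cw_spec hS N.pair.uu hu.1
  have h1 : (sS hS e ((-(σ (hf σ v f))) • w₁) (cw σ e ((-(σ (hf σ v f))) • w₁))).1.1 *ᵥ
      (pr σ e f v) = v := by
    rw [sS_mulVec_of_perp hS hSV hw.1, hwu, neg_smul, sub_neg_eq_add, ← hveq]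
  have h2 : Mv hS (qb hS e ((-(σ (hf σ v f))) • w₁) (cw σ e ((-(σ (hf σ v f))) • w₁)))
      (pr σ e f v) v := by
    have h := mv_mk hS (sS hS e ((-(σ (hf σ v f))) • w₁) (cw σ e ((-(σ (hf σ v f))) • w₁))) hww
    rwa [h1] at h
  have h3 := (mv_pmap_iff hF hS hn hT β hwpt hv _).mpr h2
  obtain ⟨hSV', hβ⟩ := N.beta_qb' hF hn p hL hu hSV
  rw [hβ] at h3
  obtain ⟨-, hpar⟩ := N.lineV_iso hF hn p hwpt hw
  have hφw : IsoPt σ (phi hS β e f (pr σ e f v)) :=
    IsoPt.of_par hpar.symm (pmap_isoPt hS hT β hwpt)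
  have h4 := h3.of_par_left hS hpar.symm (pmap_isoPt hS hT β hwpt).2
  unfold qb at h4
  have h5 := par_of_mv_mk hF hS hn hφw (pmap_isoPt hS hT β hv) h4
  rw [sS_mulVec_of_perp hS hSV' (N.phi_inW hF hn p hw.1).1, hL.fl.form _ _ hw hu, hwu] at h5
  have hG : Gmap hS β e f τ ν v =
      phi hS β e f (pr σ e f v) - (ν * τ (-(hf σ v f))) • e := by
    unfold Gmap
    rw [hve, map_zero, zero_smul, map_neg]
    module
  rw [hG]
  exact h5

include hF hn p in
/-- the map on points is induced by `G` -/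
theorem NAut.pmap_par_G (N : NAut hS hT β e f) {τ : F →+* F} {ν : F}
    (hL : FullLin hS β e f τ ν) {v : Fin n → F} (hv : IsoPt σ v) :
    Par (K := F) (pmap hS hT β v) (Gmap hS β e f τ ν v) := by
  by_cases hve : hf σ v e = 0
  · by_cases hw0 : pr σ e f v = 0
    · have h := pr_eq σ e f v
      rw [hve, hw0, zero_smul, add_zero, add_zero] at h
      obtain ⟨c, hc⟩ : ∃ c : F, v = c • e := ⟨_, h⟩
      subst hc
      have hc0 : c ≠ 0 := by
        rintro rfl
        exact hv.1 (zero_smul F e)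
      have h1 : Par (K := F) (pmap hS hT β (c • e)) (pmap hS hT β e) :=
        (pmap_par_iff hF hS hn hT β N.e_pt hv).mpr ⟨c, hc0, rfl⟩
      rw [Gmap_smul N.pair hL.fl, N.Gmap_e hF hn p]
      refine (h1.trans N.fixe).trans ⟨(τ c * ν)⁻¹, inv_ne_zero (mul_ne_zero ((map_ne_zero τ).mpr hc0)
        hL.fl.ne), ?_⟩
      rw [smul_smul, smul_smul, mul_assoc,
        inv_mul_cancel₀ (mul_ne_zero ((map_ne_zero τ).mpr hc0) hL.fl.ne), one_smul]
    · exact N.pmap_perp_e hF hn p hL hv hve hw0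
  · exact N.pmap_opp' hF hn p hL hv hve

end

end Cfsg.Agent.Lib.Helper45.PSUAut
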