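/-
helper45: automorphisms of `PSU_n(q)`, final step: every automorphism of `PSU_n(q)`, `n ≥ 3`,
`(n, q) ≠ (3, 2)`, is induced by a semilinear map `v ↦ g τ(v)` with `g` in the general unitary group.
-/
import Cfsg.Agent.Lib.Helper45.PSUAut.PmapG

set_option autoImplicit false

namespace Cfsg.Agent.Lib.Helper45.PSUAut

open Matrix Cfsg.Agent.S0837 Cfsg.Agent.S0781 Cfsg.Agent.S2644 Cfsg.Agent.Lib.Helper37
  Cfsg.Agent.Lib.Helper45.FTPG

variable {F : Type*} [Field F] [Fintype F] {q n : ℕ} {σ : F →+* F}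

omit [Fintype F] in
theorem map_mulVec_tau (τ : F →+* F) (A : Matrix (Fin n) (Fin n) F) (x : Fin n → F) :
    (fun j => τ ((A *ᵥ x) j)) = A.map τ *ᵥ (fun j => τ (x j)) := by
  ext i
  simp only [Matrix.mulVec, dotProduct, map_sum, map_mul, Matrix.map_apply]

section

variable (hF : Fintype.card F = q ^ 2) {hS : Frob σ q} (hn : 3 ≤ n) (p : ℕ) [Fact p.Prime]
  [CharP F p] {hT : AutPresT hS n} {β : MulAut (Cfsg.PSU n F q)} {e f : Fin n → F}

include hF hn p in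
/-- a normalised automorphism is induced by a semilinear unitary map -/
theorem NAut.induced (N : NAut hS hT β e f) {τ : F →+* F} {ν : F}
    (hL : FullLin hS β e f τ ν) :
    ∃ g : GL (Fin n) F, g ∈ Cfsg.GU n F q ∧
      ∀ s s' : ↥(Cfsg.SU n F q),
        s'.1.1 = (g : Matrix (Fin n) (Fin n) F) * s.1.1.map τ *
          ((g⁻¹ : GL (Fin n) F) : Matrix (Fin n) (Fin n) F) →
        β (QuotientGroup.mk s) = QuotientGroup.mk s' := by
  classical
  obtain ⟨μ, hμ⟩ := Cfsg.Agent.Lib.Helper36.exists_mul_map_eq σ hS.ne hS.invol ν hL.fl.fix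
  have hμ0 : μ ≠ 0 := by
    rintro rfl
    rw [zero_mul] at hμ
    exact hL.fl.ne hμ.symm
  have hσμ0 : σ μ ≠ 0 := hS.ne_zero hμ0
  have hMf := N.Gmat_form hF hn p hL.fl
  have hMv := N.Gmat_mulVec hF hn p hL.fl
  set M := Gmat hS β e f τ ν with hM
  set g₀ : Matrix (Fin n) (Fin n) F := μ⁻¹ • M with hg₀
  have hg₀f : ∀ u v, hf σ (g₀ *ᵥ u) (g₀ *ᵥ v) = hf σ u v := by
    intro u v
    rw [hg₀, Matrix.smul_mulVec, Matrix.smul_mulVec, hf_smul_left, hf_smul_right, hMf, map_inv₀,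
      ← hμ]
    field_simp
  have hinj : Function.Injective g₀.mulVec := by
    intro u v huv
    have h1 : g₀ *ᵥ (u - v) = 0 := by
      rw [Matrix.mulVec_sub]
      exact sub_eq_zero.mpr huv
    have h2 : ∀ x, hf σ (u - v) x = 0 := by
      intro x
      rw [← hg₀f, h1, hf_zero_left]
    exact sub_eq_zero.mp (hf_right_nondeg hS h2)
  have hU : IsUnit g₀ := Matrix.mulVec_injective_iff_isUnit.mp hinj
  obtain ⟨g, hgc⟩ : ∃ g : GL (Fin n) F, (g : Matrix (Fin n) (Fin n) F) = g₀ :=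
    ⟨hU.unit, hU.unit_spec⟩
  have hginv : ∀ y : Fin n → F,
      g₀ *ᵥ (((g⁻¹ : GL (Fin n) F) : Matrix (Fin n) (Fin n) F) *ᵥ y) = y := by
    intro y
    rw [← hgc, Matrix.mulVec_mulVec, ← Units.val_mul, mul_inv_cancel, Units.val_one,
      Matrix.one_mulVec]
  have hginv' : ∀ y : Fin n → F,
      ((g⁻¹ : GL (Fin n) F) : Matrix (Fin n) (Fin n) F) *ᵥ (g₀ *ᵥ y) = y := by
    intro y
    rw [← hgc, Matrix.mulVec_mulVec, ← Units.val_mul, inv_mul_cancel, Units.val_one,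
      Matrix.one_mulVec]
  refine ⟨g, ?_, ?_⟩
  · intro u v
    show Cfsg.hermForm n F q (((g : GL (Fin n) F) : Matrix (Fin n) (Fin n) F) *ᵥ u)
      (((g : GL (Fin n) F) : Matrix (Fin n) (Fin n) F) *ᵥ v) = Cfsg.hermForm n F q u v
    rw [hgc, hermForm_eq_hf σ hS.pow, hermForm_eq_hf σ hS.pow]
    exact hg₀f u v
  · intro s s' hss'
    rw [hgc] at hss'
    obtain ⟨s₁, hs₁⟩ := QuotientGroup.mk_surjective (β (QuotientGroup.mk s))
    rw [← hs₁]
    -- the action of `G` in terms of `g₀`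
    have hG : ∀ x : Fin n → F, Gmap hS β e f τ ν x = μ • g₀ *ᵥ (fun j => τ (x j)) := by
      intro x
      rw [← hMv, hg₀, Matrix.smul_mulVec, smul_smul, mul_inv_cancel₀ hμ0, one_smul]
    -- every isotropic vector is an eigenvector of `s₁⁻¹ s'`
    have key : ∀ y : Fin n → F, y ≠ 0 → hf σ y y = 0 →
        ∃ l : F, (s₁⁻¹ * s').1.1 *ᵥ y = l • y := by
      intro y hy0 hyy
      have hsurj := tau_surj τ
      choose v hv using fun j =>
        hsurj ((((g⁻¹ : GL (Fin n) F) : Matrix (Fin n) (Fin n) F) *ᵥ (μ⁻¹ • y)) j)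
      have hvy : Gmap hS β e f τ ν v = y := by
        rw [hG]
        have : (fun j => τ (v j)) =
            ((g⁻¹ : GL (Fin n) F) : Matrix (Fin n) (Fin n) F) *ᵥ (μ⁻¹ • y) := funext hv
        rw [this, hginv, smul_smul, mul_inv_cancel₀ hμ0, one_smul]
      have hvpt : IsoPt σ v := by
        constructor
        · rintro rfl
          rw [N.Gmap_zero hF hn p] at hvy
          exact hy0 hvy.symm
        · have h1 := N.Gmap_form hF hn p hL.fl v v
          rw [hvy, hyy] at h1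
          rcases mul_eq_zero.mp h1.symm with h2 | h2
          · exact absurd h2 hL.fl.ne
          · exact (map_eq_zero τ).mp h2
      have hsv : IsoPt σ (s.1.1 *ᵥ v) := hvpt.mulVec hS s
      have h1 : Mv hS (QuotientGroup.mk s) v (s.1.1 *ᵥ v) := mv_mk hS s hvpt.2
      have h2 := (mv_pmap_iff hF hS hn hT β hvpt hsv _).mpr h1
      rw [← hs₁] at h2
      have hp1 := N.pmap_par_G hF hn p hL hvpt
      have hp2 := N.pmap_par_G hF hn p hL hsv
      have hGv : IsoPt σ (Gmap hS β e f τ ν v) := IsoPt.of_par hp1.symm (pmap_isoPt hS hT β hvpt)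
      have hGsv : IsoPt σ (Gmap hS β e f τ ν (s.1.1 *ᵥ v)) :=
        IsoPt.of_par hp2.symm (pmap_isoPt hS hT β hsv)
      have h3 := (h2.of_par_right hS hp2 hGsv.2).of_par_left hS hp1.symm
        (pmap_isoPt hS hT β hvpt).2
      have h4 := par_of_mv_mk hF hS hn hGv hGsv h3
      rw [hvy] at h4
      -- `G (s v) = s' y`
      have h5 : Gmap hS β e f τ ν (s.1.1 *ᵥ v) = s'.1.1 *ᵥ y := by
        rw [hG, map_mulVec_tau, hss', ← hvy, hG]
        rw [Matrix.mulVec_smul, ← Matrix.mulVec_mulVec, ← Matrix.mulVec_mulVec, hginv']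
      rw [h5] at h4
      obtain ⟨c, -, hc⟩ := h4
      refine ⟨c, ?_⟩
      rw [su_mul_mulVec, hc, Matrix.mulVec_smul, su_inv_mulVec_mulVec]
    obtain ⟨a, ha⟩ := scalar_of_fix_iso hS (s₁⁻¹ * s').1.1 key
    exact QuotientGroup.eq.mpr (mem_center_of_smul ha)

end

omit [Fintype F] in
theorem su_mat_mul_inv (t : ↥(Cfsg.SU n F q)) : t.1.1 * (t⁻¹).1.1 = 1 := by
  rw [← su_mul_mat, mul_inv_cancel, su_one_mat]

omit [Fintype F] in
theorem su_mat_inv_mul (t : ↥(Cfsg.SU n F q)) : (t⁻¹).1.1 * t.1.1 = 1 := by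
  rw [← su_mul_mat, inv_mul_cancel, su_one_mat]

/-- **Main theorem**: every automorphism of `PSU_n(q)`, `n ≥ 3`, `(n, q) ≠ (3, 2)`, is induced by a
semilinear map `v ↦ g τ(v)` with `g` in the general unitary group. -/
theorem aut_psu_semilinear (hF : Fintype.card F = q ^ 2) (hn : 3 ≤ n) (hs : ¬ (n = 3 ∧ q = 2))
    (β : MulAut (Cfsg.PSU n F q)) :
    ∃ (g : GL (Fin n) F) (τ : F ≃+* F), g ∈ Cfsg.GU n F q ∧
      Cfsg.IsInducedBySemilinearPSU g τ β := by
  classical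
  obtain ⟨σ, hS⟩ := exists_frob hF
  obtain ⟨p, hp⟩ := CharP.exists F
  have : Fact p.Prime := ⟨CharP.char_is_prime F p⟩
  have hT := autPresT hF hS hn p
  obtain ⟨e, f, hP⟩ := exists_HP σ hS.ne hS.invol (by omega : 2 ≤ n)
  obtain ⟨t, hte, htf⟩ := exists_normalise hF hS hn hs p hT β hP
  have N : NAut hS hT (MulAut.conj (QuotientGroup.mk t : Cfsg.PSU n F q) * β) e f :=
    ⟨hP, hte, htf⟩
  obtain ⟨τ, ν, hL⟩ := N.exists_fullLin hF hn p hs
  obtain ⟨g₀, hg₀, hind⟩ := N.induced hF hn p hL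
  set tg : GL (Fin n) F := ⟨(t⁻¹).1.1, t.1.1, su_mat_inv_mul t, su_mat_mul_inv t⟩ with htg
  have htg1 : (tg : Matrix (Fin n) (Fin n) F) = (t⁻¹).1.1 := rfl
  have htg2 : ((tg⁻¹ : GL (Fin n) F) : Matrix (Fin n) (Fin n) F) = t.1.1 := rfl
  obtain ⟨τ', hτ'⟩ : ∃ τ' : F ≃+* F, (⇑τ' : F → F) = ⇑τ :=
    ⟨RingEquiv.ofBijective τ ⟨τ.injective, tau_surj τ⟩, rfl⟩
  refine ⟨tg * g₀, τ', Subgroup.mul_mem _ ?_ hg₀, ?_⟩
  · intro u v
    exact (t⁻¹).2 u v
  · intro s s' hss'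
    have hmat : (t * s' * t⁻¹).1.1 = (g₀ : Matrix (Fin n) (Fin n) F) * s.1.1.map τ *
        ((g₀⁻¹ : GL (Fin n) F) : Matrix (Fin n) (Fin n) F) := by
      rw [su_mul_mat, su_mul_mat]
      have h1 : (s' : Matrix.SpecialLinearGroup (Fin n) F).1 = s'.1.1 := rfl
      rw [h1] at hss'
      rw [hss', _root_.mul_inv_rev, Units.val_mul, Units.val_mul, htg1, htg2, hτ']
      calc t.1.1 * ((t⁻¹).1.1 * (g₀ : Matrix (Fin n) (Fin n) F) * s.1.1.map τ *
            (((g₀⁻¹ : GL (Fin n) F) : Matrix (Fin n) (Fin n) F) * t.1.1)) * (t⁻¹).1.1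
          = (t.1.1 * (t⁻¹).1.1) * (g₀ : Matrix (Fin n) (Fin n) F) * s.1.1.map τ *
            ((g₀⁻¹ : GL (Fin n) F) : Matrix (Fin n) (Fin n) F) * (t.1.1 * (t⁻¹).1.1) := by
            simp only [Matrix.mul_assoc]
        _ = (g₀ : Matrix (Fin n) (Fin n) F) * s.1.1.map τ *
            ((g₀⁻¹ : GL (Fin n) F) : Matrix (Fin n) (Fin n) F) := by
            rw [su_mat_mul_inv, Matrix.one_mul, Matrix.mul_one]
    have h1 := hind s (t * s' * t⁻¹) hmat
    rw [MulAut.mul_apply, MulAut.conj_apply, QuotientGroup.mk_mul, QuotientGroup.mk_mul,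
      QuotientGroup.mk_inv] at h1
    exact mul_left_cancel (mul_right_cancel h1)

end Cfsg.Agent.Lib.Helper45.PSUAut
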